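import Cfsg.Agent.SimCent.Global
import Cfsg.Agent.POmegaDiag.Cases

/-!
Fusion of the classes of similitude-induced automorphisms of odd prime order of `PΩ(Q)`,
even dimension, odd characteristic.
-/

set_option autoImplicit false
set_option linter.unusedSectionVars false
set_option maxHeartbeats 1000000

namespace CfsgLib.SimCent

open Matrix Module CfsgLib.Spinor CfsgLib.Forms CfsgLib.Forms4 CfsgLib.OutPOmega CfsgLib.POmegaDiag

variable {F : Type*} [Field F] [Fintype F] [DecidableEq F] {ι : Type} [Fintype ι] [DecidableEq ι]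
  {Q : QuadraticForm F (ι → F)}

/-- A product of reflections in pairwise orthogonal vectors. -/
theorem exists_refl_orth : ∀ (l : List (ι → F)), (∀ v ∈ l, Q v ≠ 0) →
    l.Pairwise (fun u v => QuadraticMap.polar (⇑Q) u v = 0) →
    ∃ k : ↥(Cfsg.isometryGroup F ⇑Q), IsReflProd Q k l ∧
      (∀ x, (∀ v ∈ l, QuadraticMap.polar (⇑Q) x v = 0) → mat Q k *ᵥ x = x) ∧
      ∀ v ∈ l, mat Q k *ᵥ v = -v := by
  intro l
  induction l with
  | nil => exact fun _ _ => ⟨1, IsReflProd.one, fun x _ => by rw [mat_one, one_mulVec], by simp⟩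
  | cons u l ih =>
    intro hl hp
    obtain ⟨hu, hl⟩ := List.forall_mem_cons.1 hl
    obtain ⟨hp1, hp2⟩ := List.pairwise_cons.1 hp
    obtain ⟨k, hk, hkf, hkn⟩ := ih hl hp2
    have hfixu : mat Q k *ᵥ u = u := hkf u hp1
    have happ : ∀ x, mat Q (reflIso Q u hu * k) *ᵥ x =
        mat Q k *ᵥ x - (QuadraticMap.polar (⇑Q) u (mat Q k *ᵥ x) / Q u) • u := fun x => by
      rw [mat_mul, ← mulVec_mulVec, mat_reflIso, reflectionMatrix_mulVec, refl_apply, div_eq_inv_mul]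
    refine ⟨reflIso Q u hu * k, (IsReflProd.reflIso u hu).mul hk, fun x hx => ?_, fun v hv => ?_⟩
    · obtain ⟨h1, h2⟩ := List.forall_mem_cons.1 hx
      rw [happ, hkf x h2, QuadraticMap.polar_comm, h1, zero_div, zero_smul, sub_zero]
    · rcases List.mem_cons.1 hv with rfl | hv
      · rw [happ, hfixu, QuadraticMap.polar_self, nsmul_eq_mul, Nat.cast_ofNat, mul_div_assoc, div_self hu,
          mul_one, two_smul]
        abel
      · rw [happ, hkn v hv, QuadraticMap.polar_neg_right, hp1 v hv, neg_zero, zero_div, zero_smul, sub_zero]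

variable (h2 : (2 : F) ≠ 0) (hQ : (QuadraticMap.polarBilin Q).Nondegenerate)

/-- The isometry as an endomorphism. -/
noncomputable def endo (g : ↥(Cfsg.isometryGroup F ⇑Q)) : Module.End F (ι → F) := Matrix.toLin' (mat Q g)

theorem endo_mul (g h : ↥(Cfsg.isometryGroup F ⇑Q)) : endo (g * h) = endo g * endo h := by
  rw [endo, endo, endo, mat_mul, toLin'_mul]; rfl

theorem endo_pow (g : ↥(Cfsg.isometryGroup F ⇑Q)) : ∀ n : ℕ, endo (g ^ n) = endo g ^ n := by
  intro n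
  induction n with
  | zero => rw [pow_zero, pow_zero, endo, mat_one, toLin'_one]; rfl
  | succ n ih => rw [pow_succ, pow_succ, endo_mul, ih]

theorem commute_of_endo {g h : ↥(Cfsg.isometryGroup F ⇑Q)} (hc : Commute (endo g) (endo h)) : Commute g h := by
  refine mat_ext Q (Matrix.toLin'.injective ?_)
  show endo (g * h) = endo (h * g)
  rw [endo_mul, endo_mul, hc.eq]

variable {r : ℕ} {g₀ : ↥(Cfsg.isometryGroup F ⇑Q)}

include h2 hQ in
theorem oddIso_endo (hr : r.Prime) (hro : Odd r) (hrp : (r : F) ≠ 0) (hg : g₀ ^ r = 1) :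
    OddIso (QuadraticMap.polarBilin Q) (endo g₀) r where
  two := h2
  symm u v := by simp only [QuadraticMap.polarBilin_apply_apply, QuadraticMap.polar_comm]
  nondeg u hu := hQ.1 u hu
  iso u v := by
    simp only [QuadraticMap.polarBilin_apply_apply, endo, toLin'_apply, polar_mulVec]
  prime := hr
  odd := hro
  cast_ne := hrp
  pow_eq := by rw [← endo_pow, hg, endo, mat_one, toLin'_one]; rfl

variable (hn : 5 ≤ Fintype.card ι) (P : TwoPairs Q) {m : ℕ} (hc : Fintype.card ι = 2 * m)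

include h2 hQ in
/-- A centralizing rotation with non-square spinor norm. -/
theorem exists_rotation (hr : r.Prime) (hro : Odd r) (hrp : (r : F) ≠ 0) (hg : g₀ ^ r = 1) (hg1 : g₀ ≠ 1) :
    ∃ k : ↥(Cfsg.isometryGroup F ⇑Q), Commute k g₀ ∧ pq h2 hQ k = (1, -1) := by
  have hO := oddIso_endo h2 hQ hr hro hrp hg
  obtain ⟨f, es, es', o1, o2, a1, a2, hsq, hcomm⟩ := exists_pair hO (fun h1 => hg1 (mat_ext Q
    (Matrix.toLin'.injective (h1.trans (by rw [mat_one, toLin'_one]; rfl)))))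
  have hBQ : ∀ v, QuadraticMap.polarBilin Q v v = 2 * Q v := fun v => by
    rw [QuadraticMap.polarBilin_apply_apply, QuadraticMap.polar_self, nsmul_eq_mul]; norm_num
  have hne : ∀ (e : Fin f → ι → F), (∀ i, QuadraticMap.polarBilin Q (e i) (e i) ≠ 0) →
      ∀ v ∈ List.ofFn e, Q v ≠ 0 := fun e he v hv => by
    obtain ⟨i, rfl⟩ := List.mem_ofFn.1 hv
    intro h0
    exact he i (by rw [hBQ, h0, mul_zero])
  have hpw : ∀ (e : Fin f → ι → F), (∀ i j, i ≠ j → QuadraticMap.polarBilin Q (e i) (e j) = 0) →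
      (List.ofFn e).Pairwise (fun u v => QuadraticMap.polar (⇑Q) u v = 0) := fun e he =>
    List.pairwise_ofFn.2 fun i j hij => he i j hij.ne
  obtain ⟨k, hk, hkf, hkn⟩ := exists_refl_orth _ (hne es a1) (hpw es o1)
  obtain ⟨k', hk', hkf', hkn'⟩ := exists_refl_orth _ (hne es' a2) (hpw es' o2)
  refine ⟨k * k', commute_of_endo ?_, ?_⟩
  · rw [endo_mul]
    exact hcomm (endo k) (endo k') (fun i => hkn _ (List.mem_ofFn.2 ⟨i, rfl⟩))
      (fun x hx => hkf x fun v hv => by obtain ⟨i, rfl⟩ := List.mem_ofFn.1 hv; exact hx i)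
      (fun i => hkn' _ (List.mem_ofFn.2 ⟨i, rfl⟩))
      (fun x hx => hkf' x fun v hv => by obtain ⟨i, rfl⟩ := List.mem_ofFn.1 hv; exact hx i)
  · have hkk := hk.mul hk'
    refine Prod.ext ?_ (Units.ext ?_)
    · show parityHom hQ _ (k * k') = 1
      rw [parityHom_eq hQ _ hkk, List.length_append, List.length_ofFn, List.length_ofFn, ← two_mul, pow_mul,
        neg_one_sq, one_pow]
    · show (spinHom hQ _ (k * k') : ℤ) = -1
      rw [spinHom_eq hQ _ hkk, quadraticChar_neg_one_iff_not_isSquare, List.map_append, List.prod_append,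
        List.map_ofFn, List.map_ofFn, List.prod_ofFn, List.prod_ofFn]
      rintro ⟨t, ht⟩
      refine hsq ⟨(2 : F) ^ f * t, ?_⟩
      simp only [hBQ, Finset.prod_mul_distrib, Finset.prod_const, Finset.card_univ, Fintype.card_fin]
      simp only [Function.comp_apply] at ht
      linear_combination ((2 : F) ^ f * (2 : F) ^ f) * ht

include h2 hQ hc P in
/-- A centralizing proper similitude with non-square multiplier. -/
theorem exists_similitude (hr : r.Prime) (hro : Odd r) (hrp : (r : F) ≠ 0) (hg : g₀ ^ r = 1) :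
    ∃ h : ↥(Lin Q), Commute h (isoLin Q g₀) ∧ sqHom P h.1 = -1 ∧ eps h2 hQ P hc h = 1 := by
  have hF2 : ringChar F ≠ 2 := fun h => h2 (by haveI := ringChar.of_eq h; exact CharTwo.two_eq_zero)
  obtain ⟨c, hcns⟩ := FiniteField.exists_nonsquare hF2
  have hc0 : c ≠ 0 := fun h => hcns (h ▸ IsSquare.zero)
  obtain ⟨H, hHg, hHs, hHd⟩ := CfsgLib.SimCent.exists_sim (oddIso_endo h2 hQ hr hro hrp hg)
    (show finrank F (ι → F) = 2 * m by rw [Module.finrank_fintype_fun_eq_card, hc]) hc0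
  set M := LinearMap.toMatrix' H with hM
  have hMv : ∀ v, M *ᵥ v = H v := fun v => LinearMap.toMatrix'_mulVec _ v
  have hdet : M.det = c ^ m := by rw [hM, LinearMap.det_toMatrix', hHd]
  obtain ⟨x, hxm, hxl⟩ := exists_lin_of_matrix P M (by rw [hdet]; exact pow_ne_zero _ hc0) hc0 fun v => by
    have e := hHs v v
    simp only [QuadraticMap.polarBilin_apply_apply, QuadraticMap.polar_self, nsmul_eq_mul, Nat.cast_ofNat] at e
    rw [hMv]
    exact mul_left_cancel₀ h2 (by linear_combination e)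
  refine ⟨x, ?_, Units.ext ?_, ?_⟩
  · refine Subtype.ext (Subtype.ext (SemidirectProduct.ext ?_ ?_))
    · refine Units.ext ?_
      show (x.1.1.left * fieldGL x.1.1.right (isoLin Q g₀).1.1.left).1 =
        ((isoLin Q g₀).1.1.left * fieldGL (isoLin Q g₀).1.1.right x.1.1.left).1
      rw [lin_right x, lin_right (isoLin Q g₀), map_one]
      show x.1.1.left.1 * mat Q g₀ = mat Q g₀ * x.1.1.left.1
      rw [hxl]
      refine Matrix.toLin'.injective ?_
      rw [toLin'_mul, toLin'_mul, hM, Matrix.toLin'_toMatrix']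
      exact hHg.eq
    · show x.1.1.right * (isoLin Q g₀).1.1.right = (isoLin Q g₀).1.1.right * x.1.1.right
      rw [lin_right x, lin_right (isoLin Q g₀)]
  · rw [sqHom_coe, hxm, quadraticChar_neg_one_iff_not_isSquare.2 hcns]; rfl
  · rw [eps_eq_one_iff, hxm]
    show x.1.1.left.1.det = _
    rw [hxl, hdet]

include h2 hQ hn P hc in
/-- An odd prime order automorphism induced by a similitude comes from an isometry of the same order. -/
theorem exists_iso_lift (hro : Odd r) {x : MulAut (Cfsg.POmega F ⇑Q)} (hx : x ∈ Cfsg.pgoAut F ⇑Q)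
    (hxr : orderOf x = r) : ∃ g : ↥(Cfsg.isometryGroup F ⇑Q), g ^ r = 1 ∧ thetaLin Q (isoLin Q g) = x := by
  rw [pgoAut_eq Q] at hx
  obtain ⟨a, -, rfl⟩ := hx
  have hxp : thetaLin Q a ^ r = 1 := hxr ▸ pow_orderOf_eq_one _
  have hsq : sqHom P (a ^ (r + 1) : ↥(Lin Q)).1 = 1 := by
    obtain ⟨j, hj⟩ := hro
    rw [SubgroupClass.coe_pow, map_pow, show r + 1 = 2 * (j + 1) by omega, pow_mul, Int.units_sq, one_pow]
  obtain ⟨t, g, hd⟩ := exists_decomp h2 P hsq
  have hsc : ∀ s : Fˣ, thetaLin Q (scalarLin Q s) = 1 := fun s => theta_scalarEmb s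
  have hg : thetaLin Q (isoLin Q g) = thetaLin Q a := by
    have := congrArg (thetaLin Q) hd
    rw [map_mul, map_pow, pow_succ, hxp, one_mul, hsc, one_mul] at this
    exact this.symm
  have hgr : theta ⇑Q (isoEmb ⇑Q (g ^ r)) = 1 := by
    show thetaLin Q (isoLin Q (g ^ r)) = 1
    rw [map_pow, map_pow, hg, hxp]
  obtain ⟨s, hs⟩ := eq_scalar_of_theta_eq_one hQ hn P hgr
  have hs2 : s * s = 1 := by
    have := congrArg mult hs
    rwa [mult_isoEmb P, mult_scalarEmb P, eq_comm] at this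
  have hmul : (s : F) * s = 1 := by rw [← Units.val_mul, hs2, Units.val_one]
  rcases mul_self_eq_one_iff.1 hmul with h | h
  · refine ⟨g, isoEmb_injective _ ?_, hg⟩
    rw [hs, show s = 1 from Units.ext h, map_one, map_one]
  · have hneg : g ^ r = negIso Q := isoEmb_injective _ (by
      rw [hs, isoEmb_negIso, show s = -1 from Units.ext (by rw [h, Units.val_neg, Units.val_one])])
    have hcomm : Commute (negIso Q) g := hneg ▸ (Commute.refl g).pow_left r
    have hnn : negIso Q * negIso Q = 1 := isoEmb_injective _ (by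
      rw [map_mul, isoEmb_negIso, ← map_mul, map_one]; simp)
    refine ⟨negIso Q * g, ?_, ?_⟩
    · obtain ⟨j, hj⟩ := hro
      rw [hcomm.mul_pow, hneg, hj, pow_succ, pow_mul, pow_two, hnn, one_pow, one_mul, hnn]
    · rw [map_mul, map_mul, show thetaLin Q (isoLin Q (negIso Q)) = 1 from
        (congrArg (theta ⇑Q) (isoEmb_negIso (Q := Q))).trans (theta_scalarEmb _), one_mul, hg]

include h2 hQ hn P hc in
/-- The fusion statements. -/
theorem fusion (hr : r.Prime) (hro : Odd r) (hrp : (r : F) ≠ 0) {x : MulAut (Cfsg.POmega F ⇑Q)}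
    (hx : x ∈ Cfsg.pgoAut F ⇑Q) (hxr : orderOf x = r) {G : Subgroup (MulAut (Cfsg.POmega F ⇑Q))}
    (hG : G = (eps h2 hQ P hc).ker.map (thetaLin Q)) :
    (∀ y, (Cfsg.IsConjUnder (Cfsg.Inn (Cfsg.POmega F ⇑Q)) x y ↔ Cfsg.IsConjUnder G x y) ∧
      (Cfsg.IsConjUnder (Cfsg.psoAut F ⇑Q) x y ↔ Cfsg.IsConjUnder G x y)) ∧
    ∀ y, Cfsg.IsConjUnder (Cfsg.poAut F ⇑Q) x y ↔ Cfsg.IsConjUnder (Cfsg.pgoAut F ⇑Q) x y := by
  obtain ⟨g₀, hg, hgx⟩ := exists_iso_lift h2 hQ hn P hc hro hx hxr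
  have hg1 : g₀ ≠ 1 := by
    rintro rfl
    rw [map_one, map_one] at hgx
    rw [← hgx, orderOf_one] at hxr
    exact hr.ne_one hxr.symm
  obtain ⟨k, hkg, hkpq⟩ := exists_rotation h2 hQ hr hro hrp hg hg1
  obtain ⟨h, hhg, hhsq, hheps⟩ := exists_similitude h2 hQ P hc hr hro hrp hg
  have ck : Commute (thetaLin Q (isoLin Q k)) x := hgx ▸ (hkg.map (isoLin Q)).map (thetaLin Q)
  have ch : Commute (thetaLin Q h) x := hgx ▸ hhg.map (thetaLin Q)
  have innPso : Cfsg.Inn (Cfsg.POmega F ⇑Q) ≤ Cfsg.psoAut F ⇑Q := by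
    rintro _ ⟨y, rfl⟩
    obtain ⟨s, rfl⟩ := QuotientGroup.mk_surjective y
    rw [psoAut_eq h2 hQ P hc]
    refine ⟨isoLin Q s.1, ?_, theta_isoEmb s⟩
    rw [SetLike.mem_coe, MonoidHom.mem_ker, inv_apply, sq_iso, eps_iso, (pq_eq_one_iff h2 hQ _).2 s.2]
    rfl
  have psoG : Cfsg.psoAut F ⇑Q ≤ G := by
    rw [psoAut_eq h2 hQ P hc, hG]
    exact Subgroup.map_mono fun z hz => (Prod.mk_eq_one.1 hz).2
  have cover : ∀ a ∈ G, ∃ i c, i ∈ Cfsg.Inn (Cfsg.POmega F ⇑Q) ∧ Commute c x ∧ a = i * c := by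
    intro a ha
    rw [hG] at ha
    obtain ⟨z, hz, rfl⟩ := ha
    obtain ⟨e, hec, hinv⟩ : ∃ e : ↥(Lin Q), Commute (thetaLin Q e) x ∧ inv h2 hQ P hc (z * e⁻¹) = 1 := by
      rcases Int.units_eq_one_or (sqHom P z.1) with hs | hs
      · refine ⟨1, by rw [map_one]; exact Commute.one_left _, ?_⟩
        rw [inv_one, mul_one]
        exact Prod.ext hs hz
      · refine ⟨h, ch, Prod.ext ?_ ?_⟩
        · show sqHom P (z.1 * h.1⁻¹) = 1
          rw [map_mul, map_inv, hs, hhsq, mul_inv_cancel]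
        · show eps h2 hQ P hc (z * h⁻¹) = 1
          rw [map_mul, map_inv, MonoidHom.mem_ker.1 hz, hheps, inv_one, mul_one]
    rcases out_pso_cases h2 hQ hn P hc hinv with e1 | e1
    · refine ⟨thetaLin Q (z * e⁻¹), thetaLin Q e, (mem_inn_iff _).2 e1, hec, ?_⟩
      rw [← map_mul, inv_mul_cancel_right]
    · refine ⟨thetaLin Q (z * e⁻¹ * (isoLin Q k)⁻¹), thetaLin Q (isoLin Q k) * thetaLin Q e,
        (mem_inn_iff _).2 ?_, ck.mul_left hec, ?_⟩
      · obtain ⟨h', e', hz'⟩ := pq_zCls h2 hQ hn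
        rw [map_mul, e1, map_inv, hz', outLin_iso_eq h2 hQ hn P (e'.trans hkpq.symm), mul_inv_cancel]
      · rw [← map_mul, ← map_mul, ← mul_assoc, inv_mul_cancel_right, inv_mul_cancel_right]
  have down : ∀ {K : Subgroup (MulAut (Cfsg.POmega F ⇑Q))} {a : MulAut (Cfsg.POmega F ⇑Q)},
      (∃ i c, i ∈ K ∧ Commute c x ∧ a = i * c) → ∀ y, y = a * x * a⁻¹ → Cfsg.IsConjUnder K x y := by
    rintro K a ⟨i, c, hi, hcx, rfl⟩ y rfl
    refine ⟨i, hi, ?_⟩
    rw [_root_.mul_inv_rev, mul_assoc i c x, hcx.eq, ← mul_assoc i x c, ← mul_assoc, mul_inv_cancel_right]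
  refine ⟨fun y => ⟨⟨fun ⟨a, ha, e⟩ => ⟨a, psoG (innPso ha), e⟩, fun ⟨a, ha, e⟩ => down (cover a ha) y e⟩,
    ⟨fun ⟨a, ha, e⟩ => ⟨a, psoG ha, e⟩, fun ⟨a, ha, e⟩ => ?_⟩⟩, fun y => ⟨fun ⟨a, ha, e⟩ => ⟨a, ?_, e⟩, ?_⟩⟩
  · obtain ⟨i, c, hi, hc', rfl⟩ := cover a ha
    exact down ⟨i, c, innPso hi, hc', rfl⟩ y e
  · refine (Subgroup.closure_le _).2 ?_ ha
    rintro β ⟨g, hg', hβ⟩
    exact Subgroup.subset_closure ⟨g, ⟨1, fun v => by rw [Units.val_one, one_mul]; exact hg' v v⟩, hβ⟩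
  · rintro ⟨a, ha, e⟩
    rw [pgoAut_eq Q] at ha
    obtain ⟨z, -, rfl⟩ := ha
    obtain ⟨w, hwc, hw⟩ : ∃ w : ↥(Lin Q), Commute (thetaLin Q w) x ∧ sqHom P (z * w⁻¹ : ↥(Lin Q)).1 = 1 := by
      rcases Int.units_eq_one_or (sqHom P z.1) with hs | hs
      · refine ⟨1, by rw [map_one]; exact Commute.one_left _, ?_⟩
        rw [inv_one, mul_one, hs]
      · refine ⟨h, ch, ?_⟩
        show sqHom P (z.1 * h.1⁻¹) = 1
        rw [map_mul, map_inv, hs, hhsq, mul_inv_cancel]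
    refine down ⟨thetaLin Q (z * w⁻¹), thetaLin Q w, ?_, hwc, by rw [← map_mul, inv_mul_cancel_right]⟩ y e
    obtain ⟨t, g, hd⟩ := exists_decomp h2 P hw
    rw [hd, map_mul, show thetaLin Q (scalarLin Q t) = 1 from theta_scalarEmb t, one_mul]
    exact Subgroup.subset_closure ⟨g.1, g.2, induced_lin (isoLin Q g)⟩

include h2 hQ hn P hc in
/-- `fusion`, for a form function equal to `Q` and a subgroup described by a class-preservation predicate. -/
theorem fusion_of_eq (hr : r.Prime) (hro : Odd r) (hrp : (r : F) ≠ 0) {Qf : (ι → F) → F} (hQf : Qf = ⇑Q)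
    (C : GL ι F → Prop) (hC : ∀ x : ↥(Lin Q), C x.1.1.left ↔ eps h2 hQ P hc x = 1)
    (x : MulAut (Cfsg.POmega F Qf)) (hx : x ∈ Cfsg.pgoAut F Qf) (hxr : orderOf x = r) :
    let G := Cfsg.autSubgroupOf fun β : MulAut (Cfsg.POmega F Qf) =>
      ∃ g : GL ι F, g ∈ Cfsg.Geo.quadSimilarityGroup (F := F) Qf ∧ C g ∧
        Cfsg.IsInducedBySemilinearPOmega Qf g (RingEquiv.refl F) β
    (∀ y, (Cfsg.IsConjUnder (Cfsg.Inn (Cfsg.POmega F Qf)) x y ↔ Cfsg.IsConjUnder G x y) ∧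
      (Cfsg.IsConjUnder (Cfsg.psoAut F Qf) x y ↔ Cfsg.IsConjUnder G x y)) ∧
    ∀ y, Cfsg.IsConjUnder (Cfsg.poAut F Qf) x y ↔ Cfsg.IsConjUnder (Cfsg.pgoAut F Qf) x y := by
  subst hQf
  exact fusion h2 hQ hn P hc hr hro hrp hx hxr (inndiag_eq h2 hQ P hc C hC)

end CfsgLib.SimCent
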