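import Mathlib

/-!
A space over a finite extension field `L` with a compatible bilinear form over `F` and a skew operator whose
square is a non-zero scalar: symplectic-style block bases, determinants and centralizing involution pairs.
-/

set_option autoImplicit false

namespace CfsgLib.SimCent

open Module Matrix

variable {F L U : Type*} [Field F] [Field L] [Algebra F L] [Fintype F] [FiniteDimensional F L]
  [AddCommGroup U] [Module F U] [Module L U] [IsScalarTower F L U] [FiniteDimensional F U]

variable (β : LinearMap.BilinForm F U) (S : U →ₗ[L] U) (d : L)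

/-- The hypotheses on the form and the skew operator. -/
structure SkewData : Prop where
  two : (2 : F) ≠ 0
  symm : ∀ x y, β x y = β y x
  nondeg : ∀ x, (∀ y, β x y = 0) → x = 0
  sa : ∀ (l : L) x y, β (l • x) y = β x (l • y)
  skew : ∀ x y, β (S x) y = -β x (S y)
  sq : ∀ x, S (S x) = d • x
  d_ne : d ≠ 0

variable {β S d}

omit [Fintype F] [FiniteDimensional F L] [FiniteDimensional F U] in
theorem SkewData.cross (h : SkewData β S d) (l m : L) (v : U) : β (l • v) (m • S v) = 0 := by
  have h1 : β (l • v) (m • S v) = β ((l * m) • v) (S v) := by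
    rw [h.sa, smul_smul, ← h.sa]
  have h2 : β ((l * m) • v) (S v) = - β ((l * m) • v) (S v) := by
    conv_lhs => rw [h.sa, ← map_smul, h.symm, h.skew, h.symm]
    rw [h.symm]
  rw [h1]
  exact (mul_eq_zero.1 (show (2 : F) * β ((l * m) • v) (S v) = 0 by linear_combination h2)).resolve_left h.two

omit [Fintype F] [FiniteDimensional F L] [FiniteDimensional F U] in
theorem SkewData.line_nd (h : SkewData β S d) {v : U} (hv : β v v ≠ 0) {l : L}
    (hl : ∀ m : L, β (l • v) (m • v) = 0) : l = 0 := by
  by_contra h0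
  refine hv ?_
  have := hl l⁻¹
  rwa [h.sa, smul_smul, mul_inv_cancel₀ h0, one_smul] at this

omit [Fintype F] [FiniteDimensional F L] [FiniteDimensional F U] in
theorem SkewData.pair_nd (h : SkewData β S d) {v : U} (hv : β v v ≠ 0) {a b : L}
    (hp : ∀ a' b' : L, β (a • v + b • S v) (a' • v + b' • S v) = 0) : a = 0 ∧ b = 0 := by
  have cr' : ∀ l m : L, β (m • S v) (l • v) = 0 := fun l m => by rw [h.symm, h.cross]
  constructor
  · refine h.line_nd hv fun m => ?_
    have := hp m 0
    rwa [zero_smul, add_zero, map_add, LinearMap.add_apply, cr', add_zero] at this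
  · by_contra hb
    have := hp 0 (-(b * d)⁻¹)
    rw [zero_smul, zero_add, map_add, LinearMap.add_apply, h.cross, zero_add, h.sa, smul_smul, ← map_smul,
      h.skew, h.sq, smul_smul, mul_comm d] at this
    refine hv ?_
    rw [show b * -(b * d)⁻¹ * d = -1 by field_simp [hb, h.d_ne], neg_one_smul, map_neg, neg_neg] at this
    exact this

omit [Fintype F] in
theorem SkewData.exists_blocks (h : SkewData β S d) :
    ∀ (n : ℕ) (W : Submodule L U), finrank L W = n → (∀ x ∈ W, S x ∈ W) →
      (∀ x ∈ W, (∀ y ∈ W, β x y = 0) → x = 0) →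
      ∃ (k : ℕ) (v : Fin k → U), finrank L W = 2 * k ∧
        Submodule.span L (Set.range (Sum.elim v fun i => S (v i))) = W := by
  haveI : FiniteDimensional L U := FiniteDimensional.right F L U
  intro n
  induction n using Nat.strong_induction_on with
  | _ n ih =>
    intro W hn hS hnd
    by_cases hb : W = ⊥
    · subst hb
      exact ⟨0, Fin.elim0, by simp, by simp [Submodule.span_eq_bot]⟩
    obtain ⟨v, hvW, hv⟩ : ∃ v ∈ W, β v v ≠ 0 := by
      by_contra hall
      refine hb ((Submodule.eq_bot_iff _).2 fun x hx => hnd x hx fun y hy => ?_)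
      have e : ∀ z ∈ W, β z z = 0 := fun z hz => not_not.1 fun hz' => hall ⟨z, hz, hz'⟩
      have hxy := e _ (add_mem hx hy)
      simp only [map_add, LinearMap.add_apply, e x hx, e y hy, h.symm y x, zero_add, add_zero] at hxy
      exact (mul_eq_zero.1 (show (2 : F) * β x y = 0 by linear_combination hxy)).resolve_left h.two
    let π : (L × L) →ₗ[L] U := (LinearMap.toSpanSingleton L U v).coprod (LinearMap.toSpanSingleton L U (S v))
    have hπ : ∀ p : L × L, π p = p.1 • v + p.2 • S v := fun p => rfl
    have hπi : Function.Injective π := by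
      rw [injective_iff_map_eq_zero]
      intro p hp
      obtain ⟨h1, h2⟩ := h.pair_nd hv (a := p.1) (b := p.2) fun a' b' => by
        rw [← hπ, hp, map_zero, LinearMap.zero_apply]
      exact Prod.ext h1 h2
    let W₂ : Submodule L U :=
      { carrier := {x | x ∈ W ∧ ∀ p, β x (π p) = 0}
        add_mem' := fun {x y} hx hy => ⟨add_mem hx.1 hy.1, fun p => by
          rw [map_add, LinearMap.add_apply, hx.2, hy.2, add_zero]⟩
        zero_mem' := ⟨zero_mem _, fun p => by rw [map_zero, LinearMap.zero_apply]⟩
        smul_mem' := fun l x hx => ⟨W.smul_mem l hx.1, fun p => by rw [h.sa, ← map_smul]; exact hx.2 _⟩ }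
    have hπW : LinearMap.range π ≤ W := by
      rintro _ ⟨p, rfl⟩
      rw [hπ]
      exact add_mem (W.smul_mem _ hvW) (W.smul_mem _ (hS v hvW))
    -- the orthogonal projection onto the plane
    let ψ : (L × L) →ₗ[F] Module.Dual F (L × L) :=
      (β.compl₁₂ (π.restrictScalars F) (π.restrictScalars F))
    have hψ : Function.Injective ψ := by
      rw [injective_iff_map_eq_zero]
      intro p hp
      obtain ⟨h1, h2⟩ := h.pair_nd hv (a := p.1) (b := p.2) fun a' b' => by
        have := LinearMap.congr_fun hp (a', b')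
        simpa [ψ, hπ] using this
      exact Prod.ext h1 h2
    have hψs : Function.Surjective ψ :=
      (LinearMap.injective_iff_surjective_of_finrank_eq_finrank (Subspace.dual_finrank_eq).symm).1 hψ
    have hsup : LinearMap.range π ⊔ W₂ = W := by
      refine le_antisymm (sup_le hπW fun x hx => hx.1) fun x hx => ?_
      obtain ⟨p, hp⟩ := hψs ((β x).comp (π.restrictScalars F))
      rw [show x = π p + (x - π p) by abel]
      refine add_mem (Submodule.mem_sup_left ⟨p, rfl⟩) (Submodule.mem_sup_right
        ⟨sub_mem hx (hπW ⟨p, rfl⟩), fun q => ?_⟩)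
      have := LinearMap.congr_fun hp q
      simp only [ψ, LinearMap.compl₁₂_apply, LinearMap.coe_restrictScalars, LinearMap.comp_apply] at this
      rw [map_sub, LinearMap.sub_apply, this, sub_self]
    have hdisj : LinearMap.range π ⊓ W₂ = ⊥ := by
      refine (Submodule.eq_bot_iff _).2 ?_
      rintro _ ⟨⟨p, rfl⟩, hp⟩
      obtain ⟨h1, h2⟩ := h.pair_nd hv (a := p.1) (b := p.2) fun a' b' => by
        rw [← hπ, show a' • v + b' • S v = π (a', b') from (hπ (a', b')).symm]
        exact hp.2 (a', b')
      rw [show p = 0 from Prod.ext h1 h2, map_zero]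
    have hfin : finrank L W = 2 + finrank L W₂ := by
      have := Submodule.finrank_sup_add_finrank_inf_eq (LinearMap.range π) W₂
      rw [hsup, hdisj, finrank_bot, LinearMap.finrank_range_of_inj hπi, Module.finrank_prod, Module.finrank_self] at this
      omega
    have hS2 : ∀ x ∈ W₂, S x ∈ W₂ := fun x hx => ⟨hS x hx.1, fun p => by
      have hSp : S (π p) = π (d * p.2, p.1) := by
        rw [hπ, hπ, map_add, map_smul, map_smul, h.sq, smul_smul, mul_comm p.2 d, add_comm]
      rw [h.skew, hSp, hx.2, neg_zero]⟩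
    have hnd2 : ∀ x ∈ W₂, (∀ y ∈ W₂, β x y = 0) → x = 0 := fun x hx hperp => hnd x hx.1 fun y hy => by
      rw [← hsup] at hy
      obtain ⟨_, ⟨p, rfl⟩, y2, hy2, rfl⟩ := Submodule.mem_sup.1 hy
      rw [map_add, hx.2 p, hperp y2 hy2, add_zero]
    obtain ⟨k, w, hk, hw⟩ := ih _ (by omega) W₂ rfl hS2 hnd2
    refine ⟨k + 1, Fin.cons v w, by omega, ?_⟩
    rw [Set.Sum.elim_range, Submodule.span_union]
    rw [Set.Sum.elim_range, Submodule.span_union] at hw
    rw [show (fun i => S ((Fin.cons v w : Fin (k + 1) → U) i)) = Fin.cons (S v) (fun i => S (w i)) by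
      funext i; cases i using Fin.cases <;> rfl, Fin.range_cons, Fin.range_cons, Submodule.span_insert,
      Submodule.span_insert]
    rw [← hsup, ← hw, LinearMap.range_coprod, LinearMap.range_toSpanSingleton, LinearMap.range_toSpanSingleton]
    exact sup_sup_sup_comm _ _ _ _

omit [Fintype F] in
/-- The determinant of `a + b S`. -/
theorem SkewData.det_eq (h : SkewData β S d) :
    ∃ k, finrank F U = 2 * (k * finrank F L) ∧ ∀ (a b : L) (c : F), a * a - b * b * d = algebraMap F L c →
      LinearMap.det ((a • (LinearMap.id : U →ₗ[L] U) + b • S).restrictScalars F) = c ^ (k * finrank F L) := by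
  classical
  haveI : FiniteDimensional L U := FiniteDimensional.right F L U
  obtain ⟨k, v, hk, hspan⟩ := h.exists_blocks _ ⊤ rfl (fun _ _ => trivial)
    (fun x _ hx => h.nondeg x fun y => hx y trivial)
  rw [finrank_top] at hk
  let bas : Basis (Fin k ⊕ Fin k) L U := basisOfTopLeSpanOfCardEqFinrank _ hspan.ge (by simp [hk, two_mul])
  refine ⟨k, by rw [← Module.finrank_mul_finrank F L U, hk]; ring, fun a b c hc => ?_⟩
  rw [LinearMap.det_restrictScalars, ← LinearMap.det_toMatrix bas]
  have hbl : ∀ i, bas (Sum.inl i) = v i := fun i => by simp [bas]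
  have hbr : ∀ i, bas (Sum.inr i) = S (v i) := fun i => by simp [bas]
  let e : Fin k ⊕ Fin k ≃ Fin 2 × Fin k :=
    { toFun := Sum.elim (fun i => (0, i)) (fun i => (1, i))
      invFun := fun p => if p.1 = 0 then Sum.inl p.2 else Sum.inr p.2
      left_inv := fun x => by rcases x with x | x <;> simp
      right_inv := fun p => by
        obtain ⟨i, j⟩ := p
        fin_cases i <;> simp }
  have hM : LinearMap.toMatrix bas bas (a • (LinearMap.id : U →ₗ[L] U) + b • S) =
      (Matrix.blockDiagonal fun _ : Fin k => !![a, b * d; b, a]).submatrix e e := by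
    ext i j
    rw [LinearMap.toMatrix_apply]
    have hcoord : ∀ (i j : Fin k ⊕ Fin k), bas.repr (bas j) i = if j = i then 1 else 0 := fun i j => by
      rw [bas.repr_self, Finsupp.single_apply]
    rcases j with j | j
    · rw [show (a • (LinearMap.id : U →ₗ[L] U) + b • S) (bas (Sum.inl j)) =
        a • bas (Sum.inl j) + b • bas (Sum.inr j) by simp [hbl, hbr]]
      rcases i with i | i <;>
        by_cases hij : j = i <;> simp [map_add, hcoord, hij, e, Matrix.blockDiagonal_apply, eq_comm]
    · rw [show (a • (LinearMap.id : U →ₗ[L] U) + b • S) (bas (Sum.inr j)) =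
        (b * d) • bas (Sum.inl j) + a • bas (Sum.inr j) by simp [hbl, hbr, h.sq, mul_smul, add_comm]]
      rcases i with i | i <;>
        by_cases hij : j = i <;> simp [map_add, hcoord, hij, e, Matrix.blockDiagonal_apply, eq_comm]
  rw [hM, Matrix.det_submatrix_equiv_self, Matrix.det_blockDiagonal, Finset.prod_const, Finset.card_univ,
    Fintype.card_fin, Matrix.det_fin_two_of, map_pow,
    show a * a - b * d * b = algebraMap F L c by rw [← hc]; ring, Algebra.norm_algebraMap, ← pow_mul, mul_comm]

/-- Two involution-defining families whose product centralizes and has non-square norm. -/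
theorem SkewData.exists_pair (h : SkewData β S d) [Nontrivial U] :
    ∃ (f : ℕ) (es es' : Fin f → U),
      (∀ i j, i ≠ j → β (es i) (es j) = 0) ∧ (∀ i j, i ≠ j → β (es' i) (es' j) = 0) ∧
      (∀ i, β (es i) (es i) ≠ 0) ∧ (∀ i, β (es' i) (es' i) ≠ 0) ∧
      ¬ IsSquare ((∏ i, β (es i) (es i)) * ∏ i, β (es' i) (es' i)) ∧
      ∀ R R' : U →ₗ[F] U,
        (∀ i, R (es i) = -es i) → (∀ x, (∀ i, β x (es i) = 0) → R x = x) →
        (∀ i, R' (es' i) = -es' i) → (∀ x, (∀ i, β x (es' i) = 0) → R' x = x) →
        (∀ x, R (R' (S x)) = S (R (R' x))) ∧ ∀ (l : L) x, R (R' (l • x)) = l • R (R' x) := by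
  classical
  haveI : Finite L := Module.finite_of_finite F
  have hF2 : ringChar F ≠ 2 := fun hc => h.two (by
    haveI := ringChar.of_eq hc
    exact CharTwo.two_eq_zero)
  letI : Fintype L := Fintype.ofFinite L
  obtain ⟨v, hv⟩ : ∃ v, β v v ≠ 0 := by
    by_contra hall
    obtain ⟨x, hx⟩ := exists_ne (0 : U)
    refine hx (h.nondeg x fun y => ?_)
    have e : ∀ z, β z z = 0 := fun z => not_not.1 fun hz' => hall ⟨z, hz'⟩
    have hxy := e (x + y)
    simp only [map_add, LinearMap.add_apply, e x, e y, h.symm y x, zero_add, add_zero] at hxy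
    exact (mul_eq_zero.1 (show (2 : F) * β x y = 0 by linear_combination hxy)).resolve_left h.two
  obtain ⟨z, hz⟩ := FiniteField.exists_nonsquare hF2
  obtain ⟨n, hn⟩ := FiniteField.norm_surjective F L z
  have hn0 : n ≠ 0 := by
    rintro rfl
    rw [Algebra.norm_zero] at hn
    exact hz (hn ▸ IsSquare.zero)
  have hL2 : ringChar L ≠ 2 := by
    rwa [← Algebra.ringChar_eq F L]
  obtain ⟨a, b, hab⟩ : ∃ a b : L, a * a - b * b * d = n := by
    obtain ⟨a, b, hab⟩ := FiniteField.exists_root_sum_quadratic
      (f := Polynomial.C 1 * Polynomial.X ^ 2 + Polynomial.C 0 * Polynomial.X + Polynomial.C (-n))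
      (g := Polynomial.C (-d) * Polynomial.X ^ 2 + Polynomial.C 0 * Polynomial.X + Polynomial.C 0)
      (Polynomial.degree_quadratic one_ne_zero) (Polynomial.degree_quadratic (neg_ne_zero.2 h.d_ne))
      (FiniteField.odd_card_of_char_ne_two hL2)
    refine ⟨a, b, ?_⟩
    simp at hab
    linear_combination hab
  set v' := a • v + b • S v with hv'def
  have hSv' : S v' = (b * d) • v + a • S v := by
    rw [hv'def, map_add, map_smul, map_smul, h.sq, smul_smul, add_comm]
  -- the forms on `L`
  let α : LinearMap.BilinForm F L := β.compl₁₂ (((LinearMap.toSpanSingleton L U (S v))).restrictScalars F)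
    (((LinearMap.toSpanSingleton L U (S v))).restrictScalars F)
  let α' : LinearMap.BilinForm F L := β.compl₁₂ (((LinearMap.toSpanSingleton L U (S v'))).restrictScalars F)
    (((LinearMap.toSpanSingleton L U (S v'))).restrictScalars F)
  have hα : ∀ l m, α l m = β (l • S v) (m • S v) := fun l m => rfl
  have hα' : ∀ l m, α' l m = β (l • S v') (m • S v') := fun l m => rfl
  have hαv : ∀ l m, α l m = -β ((l * m * d) • v) v := fun l m => by
    rw [hα, h.sa, smul_smul, ← map_smul, h.skew, h.sq, smul_smul, h.symm, mul_comm d]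
  have hvv : ∀ x y : L, β (x • v) (y • v) = β ((x * y) • v) v := fun x y => by
    rw [h.sa, smul_smul, ← h.sa]
  have hSS : ∀ x y : L, β (x • S v) (y • S v) = -β ((x * y * d) • v) v := hαv
  have hSc : ∀ x y : L, β (x • S v) (y • v) = 0 := fun x y => by rw [h.symm, h.cross]
  have hα'n : ∀ l m, α' l m = α (n * l) m := fun l m => by
    rw [hα', hαv, hSv']
    simp only [smul_add, smul_smul, map_add, LinearMap.add_apply, h.cross, hSc, hvv, hSS, add_zero, zero_add]
    rw [show n * l * m * d = l * a * (m * a) * d - l * (b * d) * (m * (b * d)) by rw [← hab]; ring, sub_smul,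
      map_sub, LinearMap.sub_apply]
    ring
  have hαs : ∀ l m, α l m = α m l := fun l m => by rw [hα, hα, h.symm]
  have hα'nd : ∀ l, (∀ m, α l m = 0) → l = 0 := fun l hl => by
    by_contra h0
    refine hv ?_
    have := hl (-(l * d)⁻¹)
    rw [hαv] at this
    rwa [show l * -(l * d)⁻¹ * d = -1 by field_simp [h0, h.d_ne], neg_one_smul, map_neg, LinearMap.neg_apply,
      neg_neg] at this
  haveI : Invertible (2 : F) := invertibleOfNonzero h.two
  obtain ⟨bs, hbs⟩ := LinearMap.BilinForm.exists_orthogonal_basis (K := F) (B := α) ⟨fun l m => hαs l m⟩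
  obtain ⟨bs', hbs'⟩ := LinearMap.BilinForm.exists_orthogonal_basis (K := F) (B := α')
    ⟨fun l m => by rw [hα', hα', h.symm]; rfl⟩
  have hd1 : ∀ i, α (bs i) (bs i) ≠ 0 := fun i hi => bs.ne_zero i (hα'nd _ fun m => by
    rw [← bs.sum_repr m, map_sum]
    refine Finset.sum_eq_zero fun j _ => ?_
    by_cases hij : i = j
    · rw [map_smul, ← hij, hi, smul_zero]
    · rw [map_smul, show α (bs i) (bs j) = 0 from hbs hij, smul_zero])
  have hd1' : ∀ i, α' (bs' i) (bs' i) ≠ 0 := fun i hi => bs'.ne_zero i ((mul_eq_zero.1 (hα'nd (n * bs' i) fun m => by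
    rw [← hα'n, ← bs'.sum_repr m, map_sum]
    refine Finset.sum_eq_zero fun j _ => ?_
    by_cases hij : i = j
    · rw [map_smul, ← hij, hi, smul_zero]
    · rw [map_smul, show α' (bs' i) (bs' j) = 0 from hbs' hij, smul_zero])).resolve_left hn0)
  refine ⟨finrank F L, fun i => bs i • S v, fun i => bs' i • S v', fun i j hij => hbs hij, fun i j hij => hbs' hij,
    fun i => hd1 i, fun i => hd1' i, ?_, ?_⟩
  · -- the norm computation
    show ¬ IsSquare ((∏ i, α (bs i) (bs i)) * ∏ i, α' (bs' i) (bs' i))
    have hdiag : ∀ (γ : LinearMap.BilinForm F L) (c : Basis (Fin (finrank F L)) F L), γ.iIsOrtho c →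
        LinearMap.BilinForm.toMatrix c γ = Matrix.diagonal fun i => γ (c i) (c i) := fun γ c hc => by
      ext i j
      by_cases hij : i = j
      · subst hij; simp
      · simp [hij, show γ (c i) (c j) = 0 from hc hij]
    have h1 : ∏ i, α (bs i) (bs i) = (LinearMap.BilinForm.toMatrix bs α).det := by
      rw [hdiag α bs hbs, Matrix.det_diagonal]
    have h2 : ∏ i, α' (bs' i) (bs' i) = (LinearMap.BilinForm.toMatrix bs' α').det := by
      rw [hdiag α' bs' hbs', Matrix.det_diagonal]
    have h3 : LinearMap.BilinForm.toMatrix bs' α' =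
        (bs.toMatrix bs')ᵀ * LinearMap.BilinForm.toMatrix bs α' * bs.toMatrix bs' :=
      (LinearMap.BilinForm.toMatrix_mul_basis_toMatrix bs bs' α').symm
    have h4 : LinearMap.BilinForm.toMatrix bs α' =
        (LinearMap.toMatrix bs bs (LinearMap.mulLeft F n))ᵀ * LinearMap.BilinForm.toMatrix bs α := by
      rw [← LinearMap.BilinForm.toMatrix_compLeft]
      congr 1
      exact LinearMap.ext₂ fun l m => hα'n l m
    have h5 : (LinearMap.toMatrix bs bs (LinearMap.mulLeft F n)).det = z := by
      rw [LinearMap.det_toMatrix, ← hn, Algebra.norm_apply]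
      rfl
    rw [h1, h2, h3, h4]
    simp only [Matrix.det_mul, Matrix.det_transpose, h5]
    rintro ⟨q, hq⟩
    have hD : (LinearMap.BilinForm.toMatrix bs α).det ≠ 0 := h1 ▸ Finset.prod_ne_zero_iff.2 fun i _ => hd1 i
    have hP : (bs.toMatrix bs').det ≠ 0 := fun h0 => by
      have hne : ∏ i, α' (bs' i) (bs' i) ≠ 0 := Finset.prod_ne_zero_iff.2 fun i _ => hd1' i
      rw [h2, h3, Matrix.det_mul, h0, mul_zero] at hne
      exact hne rfl
    exact hz ⟨q / ((LinearMap.BilinForm.toMatrix bs α).det * (bs.toMatrix bs').det), by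
      field_simp
      linear_combination hq⟩
  · intro R R' hR1 hR2 hR1' hR2'
    have neg_line : ∀ (T : U →ₗ[F] U) (w : U) (c : Basis (Fin (finrank F L)) F L),
        (∀ i, T (c i • w) = -(c i • w)) → ∀ l : L, T (l • w) = -(l • w) := fun T w c hT l => by
      rw [← c.sum_repr l, Finset.sum_smul, map_sum, ← Finset.sum_neg_distrib]
      refine Finset.sum_congr rfl fun i _ => ?_
      rw [smul_assoc, map_smul, hT, smul_neg]
    have hRS : ∀ l : L, R (l • S v) = -(l • S v) := neg_line R _ bs hR1
    have hRv : ∀ l : L, R (l • v) = l • v := fun l => hR2 _ fun i => h.cross l (bs i) v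
    have hR'S : ∀ l : L, R' (l • S v') = -(l • S v') := neg_line R' _ bs' hR1'
    have hR'v : ∀ l : L, R' (l • v') = l • v' := fun l => hR2' _ fun i => h.cross l (bs' i) v'
    have hvv' : v = (a * n⁻¹) • v' + (-(b * n⁻¹)) • S v' := by
      rw [hSv', hv'def, show (a * n⁻¹) • (a • v + b • S v) + (-(b * n⁻¹)) • ((b * d) • v + a • S v) =
          (a * n⁻¹ * a + -(b * n⁻¹) * (b * d)) • v + (a * n⁻¹ * b + -(b * n⁻¹) * a) • S v by module,
        show a * n⁻¹ * a + -(b * n⁻¹) * (b * d) = 1 by field_simp; linear_combination hab,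
        show a * n⁻¹ * b + -(b * n⁻¹) * a = 0 by ring, one_smul, zero_smul, add_zero]
    have hSvv' : S v = (a * n⁻¹) • S v' + (-(b * n⁻¹) * d) • v' := by
      conv_lhs => rw [hvv', map_add, map_smul, map_smul, h.sq, smul_smul]
    have hsd : ∀ x : U, ∃ (y : U) (p q : L), x = y + p • v + q • S v ∧ (∀ m : L, β y (m • v) = 0) ∧
        ∀ m : L, β y (m • S v) = 0 := by
      intro x
      let π : (L × L) →ₗ[L] U := (LinearMap.toSpanSingleton L U v).coprod (LinearMap.toSpanSingleton L U (S v))
      let ψ : (L × L) →ₗ[F] Module.Dual F (L × L) :=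
        (β.compl₁₂ (π.restrictScalars F) (π.restrictScalars F))
      have hψ : Function.Injective ψ := by
        rw [injective_iff_map_eq_zero]
        intro p hp
        obtain ⟨h1, h2⟩ := h.pair_nd hv (a := p.1) (b := p.2) fun a' b' => by
          have := LinearMap.congr_fun hp (a', b')
          simpa [ψ, π] using this
        exact Prod.ext h1 h2
      obtain ⟨⟨p, q⟩, hp⟩ := (LinearMap.injective_iff_surjective_of_finrank_eq_finrank
        (Subspace.dual_finrank_eq).symm).1 hψ ((β x).comp (π.restrictScalars F))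
      refine ⟨x - (p • v + q • S v), p, q, by abel, fun m => ?_, fun m => ?_⟩
      · have := LinearMap.congr_fun hp (m, 0)
        simp [ψ, π] at this
        simp only [map_sub, map_add, LinearMap.sub_apply, LinearMap.add_apply]
        linear_combination -this
      · have := LinearMap.congr_fun hp (0, m)
        simp [ψ, π] at this
        simp only [map_sub, map_add, LinearMap.sub_apply, LinearMap.add_apply]
        linear_combination -this
    have fixR : ∀ y, (∀ m : L, β y (m • v) = 0) → (∀ m : L, β y (m • S v) = 0) → R y = y ∧ R' y = y := by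
      intro y hy1 hy2
      refine ⟨hR2 y fun i => hy2 _, hR2' y fun i => ?_⟩
      show β y (bs' i • S v') = 0
      rw [hSv', smul_add, smul_smul, smul_smul, map_add, hy1, hy2, add_zero]
    -- the product is `y + p v + q S v ↦ y + (A + B S)(p v + q S v)`
    set A := a * n⁻¹ * a + b * n⁻¹ * (b * d) with hA
    set B := -(a * n⁻¹ * b + b * n⁻¹ * a) with hB
    have f1 : ∀ p : L, R (R' (p • v)) = (p * A) • v + (p * B) • S v := fun p => by
      have e : R' (p • v) = (p * (a * n⁻¹)) • v' + (p * (b * n⁻¹)) • S v' := by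
        conv_lhs => rw [hvv', smul_add, smul_smul, smul_smul, map_add, hR'v, hR'S]
        rw [← neg_smul]; congr 2; ring
      rw [e, hSv', hv'def, show (p * (a * n⁻¹)) • (a • v + b • S v) + (p * (b * n⁻¹)) • ((b * d) • v + a • S v) =
        (p * A) • v + (-(p * B)) • S v by rw [hA, hB]; module, map_add, hRv, hRS, ← neg_smul, neg_neg]
    have f2 : ∀ q : L, R (R' (q • S v)) = (q * (B * d)) • v + (q * A) • S v := fun q => by
      have e : R' (q • S v) = (q * (-(b * n⁻¹) * d)) • v' + (-(q * (a * n⁻¹))) • S v' := by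
        conv_lhs => rw [hSvv', smul_add, smul_smul, smul_smul, map_add, hR'v, hR'S]
        rw [← neg_smul, add_comm]
      rw [e, hSv', hv'def, show (q * (-(b * n⁻¹) * d)) • (a • v + b • S v) + (-(q * (a * n⁻¹))) • ((b * d) • v + a • S v) =
        (q * (B * d)) • v + (-(q * A)) • S v by rw [hA, hB]; module, map_add, hRv, hRS, ← neg_smul, neg_neg]
    have formula : ∀ y p q, (∀ m : L, β y (m • v) = 0) → (∀ m : L, β y (m • S v) = 0) →
        R (R' (y + p • v + q • S v)) = y + (p * A + q * (B * d)) • v + (p * B + q * A) • S v := by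
      intro y p q hy1 hy2
      obtain ⟨e1, e2⟩ := fixR y hy1 hy2
      simp only [map_add, e1, e2, f1, f2]
      module
    refine ⟨fun x => ?_, fun l x => ?_⟩
    · obtain ⟨y, p, q, rfl, hy1, hy2⟩ := hsd x
      have h1 : ∀ m : L, β (S y) (m • v) = 0 := fun m => by rw [h.skew, map_smul, hy2, neg_zero]
      have h2 : ∀ m : L, β (S y) (m • S v) = 0 := fun m => by
        rw [h.skew, map_smul, h.sq, smul_smul, hy1, neg_zero]
      have hSx : S (y + p • v + q • S v) = S y + (q * d) • v + p • S v := by
        rw [map_add, map_add, map_smul, map_smul, h.sq, smul_smul]; module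
      rw [hSx, formula _ _ _ h1 h2, formula _ _ _ hy1 hy2, map_add, map_add, map_smul, map_smul, h.sq]
      module
    · obtain ⟨y, p, q, rfl, hy1, hy2⟩ := hsd x
      have h1 : ∀ m : L, β (l • y) (m • v) = 0 := fun m => by rw [h.sa, smul_smul, hy1]
      have h2 : ∀ m : L, β (l • y) (m • S v) = 0 := fun m => by rw [h.sa, smul_smul, hy2]
      rw [smul_add, smul_add, smul_smul, smul_smul, formula _ _ _ h1 h2, formula _ _ _ hy1 hy2]
      module

/-- A similitude of multiplier `c` commuting with `S` and the scalars. -/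
theorem SkewData.exists_sim (h : SkewData β S d) {c : F} :
    ∃ (k : ℕ) (hh : U →ₗ[F] U), finrank F U = 2 * k ∧ LinearMap.det hh = c ^ k ∧
      (∀ x y, β (hh x) (hh y) = c * β x y) ∧ (∀ x, hh (S x) = S (hh x)) ∧ ∀ (l : L) x, hh (l • x) = l • hh x := by
  obtain ⟨k, hk, hdet⟩ := h.det_eq
  haveI : Finite L := Module.finite_of_finite F
  letI : Fintype L := Fintype.ofFinite L
  have hL2 : ringChar L ≠ 2 := by
    rw [← Algebra.ringChar_eq F L]
    intro hc2
    haveI := ringChar.of_eq hc2
    exact h.two CharTwo.two_eq_zero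
  obtain ⟨a, b, hab⟩ : ∃ a b : L, a * a - b * b * d = algebraMap F L c := by
    obtain ⟨a, b, hab⟩ := FiniteField.exists_root_sum_quadratic
      (f := Polynomial.C 1 * Polynomial.X ^ 2 + Polynomial.C 0 * Polynomial.X + Polynomial.C (-(algebraMap F L c)))
      (g := Polynomial.C (-d) * Polynomial.X ^ 2 + Polynomial.C 0 * Polynomial.X + Polynomial.C 0)
      (Polynomial.degree_quadratic one_ne_zero) (Polynomial.degree_quadratic (neg_ne_zero.2 h.d_ne))
      (FiniteField.odd_card_of_char_ne_two hL2)
    refine ⟨a, b, ?_⟩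
    simp at hab
    linear_combination hab
  refine ⟨k * finrank F L, (a • (LinearMap.id : U →ₗ[L] U) + b • S).restrictScalars F, hk, hdet a b c hab,
    fun x y => ?_, fun x => ?_, fun l x => ?_⟩
  · show β (a • x + b • S x) (a • y + b • S y) = c * β x y
    rw [LinearMap.map_add₂, h.sa, h.sa b, ← map_smul S b y, h.skew, ← sub_eq_add_neg,
      ← map_sub,
      show a • (a • y + S (b • y)) - S (b • (a • y + S (b • y))) = (a * a - b * b * d) • y by
        simp only [map_add, map_smul, h.sq]; module,
      hab, algebraMap_smul, map_smul, smul_eq_mul]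
  · show a • S x + b • S (S x) = S (a • x + b • S x)
    rw [map_add, map_smul, map_smul]
  · show a • (l • x) + b • S (l • x) = l • (a • x + b • S x)
    rw [map_smul]; module

end CfsgLib.SimCent
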