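import Cfsg.Agent.SimCent.Split
import Cfsg.Agent.SimCent.Block
import Cfsg.Agent.UnipotentForms.SpClasses

/-!
The centralizer of an isometry of odd prime order contains a rotation of non-square spinor norm and
proper similitudes of every multiplier.
-/

set_option autoImplicit false

namespace CfsgLib.SimCent

open Module Polynomial
open scoped Matrix

variable {F : Type*} [Field F] [Fintype F] {V : Type*} [AddCommGroup V] [Module F V] [FiniteDimensional F V]
  {B : LinearMap.BilinForm F V} {g : Module.End F V} {r : ℕ}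

theorem OddIso.refl_form (h : OddIso B g r) : B.IsRefl := fun x y hxy => by rw [h.symm]; exact hxy

theorem OddIso.nd_form (h : OddIso B g r) : B.Nondegenerate :=
  ⟨h.nondeg, fun y hy => h.nondeg y fun x => by rw [h.symm]; exact hy x⟩

theorem OddIso.isCompl_orth (h : OddIso B g r) {U : Submodule F V} (hU : Good B g U) :
    IsCompl U (B.orthogonal U) :=
  LinearMap.BilinForm.isCompl_orthogonal_of_restrict_nondegenerate h.refl_form
    ⟨fun x hx => Subtype.ext (hU.nd x.1 x.2 fun y hy => hx ⟨y, hy⟩),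
      fun y hy => Subtype.ext (hU.nd y.1 y.2 fun x hx => by rw [h.symm]; exact hy ⟨x, hx⟩)⟩

theorem OddIso.orth_inv (h : OddIso B g r) {U : Submodule F V} (hU : Good B g U) {x : V}
    (hx : x ∈ B.orthogonal U) : g x ∈ B.orthogonal U := fun u hu => by
  show B u (g x) = 0
  rw [h.symm, h.adjoint, h.symm]
  exact hx _ (hU.pow_mem (r - 1) hu)

theorem Good.disjoint {U₁ U₂ : Submodule F V} (h₁ : Good B g U₁)
    (ho : ∀ x ∈ U₁, ∀ y ∈ U₂, B x y = 0) (hs : ∀ u v, B u v = B v u) : U₁ ⊓ U₂ = ⊥ :=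
  (Submodule.eq_bot_iff _).2 fun x hx => h₁.nd x hx.1 fun y hy => by rw [hs]; exact ho y hy x hx.2

theorem Good.sup {U₁ U₂ : Submodule F V} (h₁ : Good B g U₁) (h₂ : Good B g U₂)
    (ho : ∀ x ∈ U₁, ∀ y ∈ U₂, B x y = 0) (hs : ∀ u v, B u v = B v u) : Good B g (U₁ ⊔ U₂) := by
  refine ⟨fun x hx hperp => ?_, fun x hx => ?_⟩
  · obtain ⟨a, ha, b, hb, rfl⟩ := Submodule.mem_sup.1 hx
    have ha0 : a = 0 := h₁.nd a ha fun y hy => by
      have := hperp y (Submodule.mem_sup_left hy)
      rwa [map_add, LinearMap.add_apply, hs b y, ho y hy b hb, add_zero] at this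
    have hb0 : b = 0 := h₂.nd b hb fun y hy => by
      have := hperp y (Submodule.mem_sup_right hy)
      rwa [map_add, LinearMap.add_apply, ho a ha y hy, zero_add] at this
    rw [ha0, hb0, add_zero]
  · obtain ⟨a, ha, b, hb, rfl⟩ := Submodule.mem_sup.1 hx
    rw [map_add]
    exact add_mem (Submodule.mem_sup_left (h₁.inv a ha)) (Submodule.mem_sup_right (h₂.inv b hb))

theorem adj_mem {U : Submodule F V} (hU : Good B g U) (x : V) (hx : x ∈ U) : adj g r x ∈ U := by
  rw [← aeval_adjPoly]; exact hU.aeval_mem _ hx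

theorem skew_mem {U : Submodule F V} (hU : Good B g U) (x : V) (hx : x ∈ U) : skew g r x ∈ U :=
  sub_mem (hU.inv x hx) (hU.pow_mem (r - 1) hx)

theorem two_smul_eq (x : V) : (2 : F) • g x = adj g r x + skew g r x := by
  simp only [adj, skew, LinearMap.add_apply, LinearMap.sub_apply, two_smul]
  abel

theorem coe_aeval_restrict {U : Submodule F V} (hU : Good B g U) (p : F[X]) :
    ∀ x : U, ((aeval ((adj g r).restrict (adj_mem hU)) p x : U) : V) = aeval (adj g r) p x.1 := by
  induction p using Polynomial.induction_on with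
  | C a => intro x; simp [Module.algebraMap_end_apply]
  | add p q hp hq => intro x; simp [hp, hq]
  | monomial n a ih =>
    intro x
    rw [pow_succ, ← mul_assoc, map_mul, map_mul (aeval (adj g r)), aeval_X, aeval_X, Module.End.mul_apply,
      Module.End.mul_apply, ih]
    rfl

set_option maxHeartbeats 1000000 in
/-- What the block theory gives for a subspace on which the self-adjoint part acts as a field. -/
theorem simple_data (h : OddIso B g r) {U : Submodule F V} (hU : Good B g U) (hne : U ≠ ⊥)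
    (hs : IsSimpleSub g r U) (hnf : ¬ ∀ x ∈ U, g x = x) :
    (∀ c : F, c ≠ 0 → ∃ (k : ℕ) (hh : Module.End F U), finrank F U = 2 * k ∧ LinearMap.det hh = c ^ k ∧
      (∀ x y : U, B (hh x) (hh y) = c * B x y) ∧
      ∀ x : U, hh ⟨g x, hU.inv _ x.2⟩ = (⟨g (hh x), hU.inv _ (hh x).2⟩ : U)) ∧
    ∃ (f : ℕ) (es es' : Fin f → U),
      (∀ i j, i ≠ j → B (es i) (es j) = 0) ∧ (∀ i j, i ≠ j → B (es' i) (es' j) = 0) ∧
      (∀ i, B (es i) (es i) ≠ 0) ∧ (∀ i, B (es' i) (es' i) ≠ 0) ∧
      ¬ IsSquare ((∏ i, B (es i) (es i)) * ∏ i, B (es' i) (es' i)) ∧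
      ∀ R R' : Module.End F U,
        (∀ i, R (es i) = -es i) → (∀ x : U, (∀ i, B x (es i) = 0) → R x = x) →
        (∀ i, R' (es' i) = -es' i) → (∀ x : U, (∀ i, B x (es' i) = 0) → R' x = x) →
        ∀ x : U, R (R' ⟨g x, hU.inv _ x.2⟩) = (⟨g (R (R' x)), hU.inv _ (R (R' x)).2⟩ : U) := by
  classical
  haveI : Nontrivial U := Submodule.nontrivial_iff_ne_bot.2 hne
  let Φ : F[X] →ₐ[F] Module.End F U := aeval ((adj g r).restrict (adj_mem hU))
  have hΦ : ∀ p (x : U), ((Φ p x : U) : V) = aeval (adj g r) p x.1 := coe_aeval_restrict hU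
  let L := Φ.range
  have hfield : IsField L := by
    refine ⟨⟨0, 1, zero_ne_one⟩, ?_, ?_⟩
    · rintro ⟨_, p, rfl⟩ ⟨_, q, rfl⟩
      exact Subtype.ext (by
        show Φ p * Φ q = Φ q * Φ p
        rw [← map_mul, ← map_mul, mul_comm])
    · rintro ⟨_, p, rfl⟩ hp
      refine ⟨⟨_, p ^ (expo F r - 2), rfl⟩, Subtype.ext ?_⟩
      show Φ p * Φ (p ^ (expo F r - 2)) = 1
      have hinj : ∀ x : U, Φ p x = 0 → x = 0 := by
        rcases hs p with h0 | h0
        · refine absurd (Subtype.ext (LinearMap.ext fun x => Subtype.ext ?_)) hp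
          show ((Φ p x : U) : V) = _
          rw [hΦ, h0 x x.2]; rfl
        · intro x hx
          refine Subtype.ext (h0 x x.2 ?_)
          rw [← hΦ, hx]; rfl
      have hQ : Φ p ^ expo F r = Φ p := LinearMap.ext fun x => Subtype.ext (by
        rw [← map_pow, hΦ, hΦ, map_pow, aeval_adj, h.aeval_pow_expo])
      refine LinearMap.ext fun x => ?_
      rw [Module.End.one_apply]
      refine sub_eq_zero.1 (hinj _ ?_)
      rw [map_sub, ← map_mul, ← pow_succ', ← Module.End.mul_apply, ← map_mul, ← pow_succ', map_pow,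
        show expo F r - 2 + 1 + 1 = expo F r by have := two_le_expo F h.prime; omega, hQ, sub_self]
  letI : Field L := hfield.toField
  have hsmul : ∀ (l : L) (x : U), l • x = (l : Module.End F U) x := fun l x => rfl
  haveI : IsScalarTower F L U := ⟨fun a l x => by
    rw [hsmul, hsmul]
    rfl⟩
  haveI : FiniteDimensional F L := FiniteDimensional.finiteDimensional_subalgebra L
  let β : LinearMap.BilinForm F U := B.restrict U
  have hβ : ∀ x y : U, β x y = B x y := fun x y => rfl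
  let S : U →ₗ[L] U :=
    { toFun := fun x => ⟨skew g r x, skew_mem hU x x.2⟩
      map_add' := fun x y => Subtype.ext (by simp)
      map_smul' := fun l x => by
        obtain ⟨_, p, rfl⟩ := l
        refine Subtype.ext ?_
        show skew g r ((Φ p x : U) : V) = ((Φ p ⟨skew g r x, skew_mem hU x x.2⟩ : U) : V)
        rw [hΦ, hΦ, ← Module.End.mul_apply, ← Module.End.mul_apply]
        exact congrArg (fun f : Module.End F V => f x.1)
          (((aeval_adj_commute p).sub_right ((aeval_adj_commute p).pow_right _)).eq.symm) }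
  let d : L := ⟨_, (X ^ 2 - C 4 : F[X]), rfl⟩
  have hd : ∀ x : U, S (S x) = d • x := fun x => Subtype.ext (by
    show skew g r (skew g r x) = ((Φ (X ^ 2 - C 4) x : U) : V)
    rw [hΦ, map_sub, map_pow, aeval_X, aeval_C, LinearMap.sub_apply, Module.algebraMap_end_apply, pow_two,
      Module.End.mul_apply]
    have e1 : g ((g ^ (r - 1)) x.1) = x.1 := by rw [← Module.End.mul_apply, h.pow_pred, Module.End.one_apply]
    have e2 : (g ^ (r - 1)) (g x.1) = x.1 := by rw [← Module.End.mul_apply, h.pred_pow, Module.End.one_apply]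
    simp only [adj, skew, LinearMap.add_apply, LinearMap.sub_apply, map_add, map_sub, e1, e2]
    rw [show (4 : F) • x.1 = x.1 + x.1 + x.1 + x.1 by module]
    abel)
  have hd0 : d ≠ 0 := fun hd' => hnf (h.fix_of_skew_sq fun x hx => by
    have := congrArg Subtype.val (hd ⟨x, hx⟩)
    rw [hd', zero_smul] at this
    exact this)
  have hdata : SkewData β S d := by
    refine ⟨h.two, fun x y => h.symm _ _, fun x hx => Subtype.ext (hU.nd x x.2 fun y hy => hx ⟨y, hy⟩), ?_,
      fun x y => h.skew_skew x.1 y.1, hd, hd0⟩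
    rintro ⟨_, p, rfl⟩ x y
    show B ((Φ p x : U) : V) y = B x ((Φ p y : U) : V)
    rw [hΦ, hΦ, h.aeval_sa]
  have hgU : ∀ x : U, (2 : F) • (⟨g x, hU.inv _ x.2⟩ : U) = (⟨_, X, rfl⟩ : L) • x + S x := fun x => Subtype.ext (by
    show (2 : F) • g x = ((Φ X x : U) : V) + skew g r x
    rw [hΦ, aeval_X, two_smul_eq])
  have comm_g : ∀ k : Module.End F U, (∀ x, k (S x) = S (k x)) → (∀ (l : L) x, k (l • x) = l • k x) →
      ∀ x : U, k ⟨g x, hU.inv _ x.2⟩ = (⟨g (k x), hU.inv _ (k x).2⟩ : U) := fun k hkS hkl x =>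
    smul_right_injective U h.two (show (2 : F) • k ⟨g x, hU.inv _ x.2⟩ = (2 : F) • _ by
      rw [← map_smul, hgU, hgU, map_add, hkS, hkl])
  refine ⟨fun c _ => ?_, ?_⟩
  · obtain ⟨k, hh, hk, hd', hsim, hhS, hhl⟩ := hdata.exists_sim (c := c)
    exact ⟨k, hh, hk, hd', hsim, comm_g hh hhS hhl⟩
  · obtain ⟨f, es, es', h1, h2, h3, h4, h5, h6⟩ := hdata.exists_pair
    refine ⟨f, es, es', h1, h2, h3, h4, h5, fun R R' a1 a2 a3 a4 => ?_⟩
    obtain ⟨hS', hl'⟩ := h6 R R' a1 a2 a3 a4
    exact comm_g (R * R') hS' hl'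

/-- Centralizing reflection pairs. -/
theorem exists_pair (h : OddIso B g r) (hg1 : g ≠ 1) :
    ∃ (f : ℕ) (es es' : Fin f → V),
      (∀ i j, i ≠ j → B (es i) (es j) = 0) ∧ (∀ i j, i ≠ j → B (es' i) (es' j) = 0) ∧
      (∀ i, B (es i) (es i) ≠ 0) ∧ (∀ i, B (es' i) (es' i) ≠ 0) ∧
      ¬ IsSquare ((∏ i, B (es i) (es i)) * ∏ i, B (es' i) (es' i)) ∧
      ∀ R R' : Module.End F V,
        (∀ i, R (es i) = -es i) → (∀ x, (∀ i, B x (es i) = 0) → R x = x) →
        (∀ i, R' (es' i) = -es' i) → (∀ x, (∀ i, B x (es' i) = 0) → R' x = x) →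
        Commute (R * R') g := by
  suffices H : ∀ U, Good B g U → (∀ x ∈ U, g x = x) ∨ ∃ (f : ℕ) (es es' : Fin f → V),
      (∀ i j, i ≠ j → B (es i) (es j) = 0) ∧ (∀ i j, i ≠ j → B (es' i) (es' j) = 0) ∧
      (∀ i, B (es i) (es i) ≠ 0) ∧ (∀ i, B (es' i) (es' i) ≠ 0) ∧
      ¬ IsSquare ((∏ i, B (es i) (es i)) * ∏ i, B (es' i) (es' i)) ∧
      ∀ R R' : Module.End F V,
        (∀ i, R (es i) = -es i) → (∀ x, (∀ i, B x (es i) = 0) → R x = x) →
        (∀ i, R' (es' i) = -es' i) → (∀ x, (∀ i, B x (es' i) = 0) → R' x = x) →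
        Commute (R * R') g by
    exact (H ⊤ ⟨fun x _ hx => h.nondeg x fun y => hx y trivial, fun _ _ => trivial⟩).resolve_left
      fun hfix => hg1 (LinearMap.ext fun x => hfix x trivial)
  refine splitting_induction h (fun U hU hne hs => ?_) (Or.inl fun x hx => by
    rw [(Submodule.mem_bot F).1 hx, map_zero]) fun U₁ U₂ _ _ _ h1 h2 => ?_
  · by_cases hfix : ∀ x ∈ U, g x = x
    · exact Or.inl hfix
    obtain ⟨f, es, es', o1, o2, a1, a2, hsq, hc⟩ := (simple_data h hU hne hs hfix).2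
    refine Or.inr ⟨f, fun i => es i, fun i => es' i, o1, o2, a1, a2, hsq, fun R R' r1 r2 r3 r4 => ?_⟩
    have mapsTo : ∀ (R : Module.End F V) (e : Fin f → U), (∀ i j, i ≠ j → B (e i) (e j) = 0) →
        (∀ i, B (e i) (e i) ≠ 0) → (∀ i, R (e i : V) = -(e i : V)) →
        (∀ x, (∀ i, B x (e i) = 0) → R x = x) → ∀ x ∈ U, R x ∈ U := by
      intro R e ho hn hneg hfixR x hx
      have hperp : ∀ j, B (x - ∑ i, (B x (e i) / B (e i) (e i)) • (e i : V)) (e j) = 0 := fun j => by
        rw [map_sub, LinearMap.sub_apply, map_sum, LinearMap.sum_apply,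
          Finset.sum_eq_single j (fun i _ hij => by rw [map_smul, LinearMap.smul_apply, ho i j hij, smul_zero])
            (by simp), map_smul, LinearMap.smul_apply, smul_eq_mul, div_mul_cancel₀ _ (hn j), sub_self]
      have hRx := hfixR _ hperp
      rw [map_sub, sub_eq_iff_eq_add, map_sum] at hRx
      rw [hRx]
      refine add_mem (sub_mem hx (sum_mem fun i _ => U.smul_mem _ (e i).2)) (sum_mem fun i _ => ?_)
      rw [map_smul, hneg]
      exact U.smul_mem _ (U.neg_mem (e i).2)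
    have hR := mapsTo R es o1 a1 r1 r2
    have hR' := mapsTo R' es' o2 a2 r3 r4
    have hU' := hc (R.restrict hR) (R'.restrict hR')
      (fun i => Subtype.ext (r1 i)) (fun x hx => Subtype.ext (r2 _ hx))
      (fun i => Subtype.ext (r3 i)) (fun x hx => Subtype.ext (r4 _ hx))
    refine LinearMap.ext fun x => ?_
    obtain ⟨u, hu, w, hw, rfl⟩ := Submodule.mem_sup.1
      (show x ∈ U ⊔ B.orthogonal U by rw [(h.isCompl_orth hU).sup_eq_top]; trivial)
    have idR : ∀ z ∈ B.orthogonal U, R (R' z) = z := fun z hz => by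
      rw [r4 z (fun i => by rw [h.symm]; exact hz _ (es' i).2), r2 z (fun i => by rw [h.symm]; exact hz _ (es i).2)]
    simp only [Module.End.mul_apply, map_add]
    rw [idR w hw, idR _ (h.orth_inv hU hw)]
    exact congrArg (· + g w) (congrArg Subtype.val (hU' ⟨u, hu⟩))
  · rcases h1 with h1 | h1
    · rcases h2 with h2 | h2
      · refine Or.inl fun x hx => ?_
        obtain ⟨a, ha, b, hb, rfl⟩ := Submodule.mem_sup.1 hx
        rw [map_add, h1 a ha, h2 b hb]
      · exact Or.inr h2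
    · exact Or.inr h1

/-- A similitude of multiplier `c` of a non-degenerate space of dimension `2 k` with determinant `c ^ k`. -/
theorem exists_sim_plain {U : Type*} [AddCommGroup U] [Module F U] [FiniteDimensional F U] (h2 : (2 : F) ≠ 0)
    (β : LinearMap.BilinForm F U) (hs : ∀ x y, β x y = β y x) (hnd : ∀ x, (∀ y, β x y = 0) → x = 0)
    {k : ℕ} (hk : finrank F U = 2 * k) {c : F} (hc : c ≠ 0) :
    ∃ hh : Module.End F U, (∀ x y, β (hh x) (hh y) = c * β x y) ∧ LinearMap.det hh = c ^ k := by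
  classical
  haveI : Invertible (2 : F) := invertibleOfNonzero h2
  obtain ⟨w, hw⟩ := LinearMap.BilinForm.exists_orthogonal_basis (K := F) (B := β) ⟨fun l m => hs l m⟩
  set A := LinearMap.BilinForm.toMatrix w β with hA
  have hAT : Aᵀ = A := by ext i j; simp [hA, hs (w i) (w j)]
  have hAd : A = Matrix.diagonal fun i => β (w i) (w i) := by
    ext i j
    by_cases hij : i = j
    · subst hij; simp [hA]
    · simp [hA, hij, show β (w i) (w j) = 0 from hw hij]
  have hAu : IsUnit A := by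
    rw [Matrix.isUnit_iff_isUnit_det, isUnit_iff_ne_zero]
    exact (LinearMap.BilinForm.nondegenerate_iff_det_ne_zero w).1
      ⟨hnd, fun y hy => hnd y fun x => by rw [hs]; exact hy x⟩
  obtain ⟨N, -, hN⟩ := CfsgLib.UnipotentForms.exists_congr_symm h2 hAT
    (show (c • A)ᵀ = c • A by rw [Matrix.transpose_smul, hAT]) hAu
    (by rw [Matrix.isUnit_iff_isUnit_det, isUnit_iff_ne_zero, Matrix.det_smul]
        exact mul_ne_zero (pow_ne_zero _ hc) ((Matrix.isUnit_iff_isUnit_det _).1 hAu).ne_zero)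
    ⟨A.det * c ^ k, by rw [Matrix.det_smul, Fintype.card_fin, show c ^ finrank F U = c ^ k * c ^ k by rw [hk, two_mul, pow_add]]; ring⟩
  have hdet2 : (N.det - c ^ k) * (N.det + c ^ k) = 0 := by
    have e := congrArg Matrix.det hN
    rw [Matrix.det_mul, Matrix.det_mul, Matrix.det_transpose, Matrix.det_smul, Fintype.card_fin,
      show c ^ finrank F U = c ^ k * c ^ k by rw [hk, two_mul, pow_add]] at e
    have hA0 : A.det ≠ 0 := ((Matrix.isUnit_iff_isUnit_det _).1 hAu).ne_zero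
    refine (mul_eq_zero.1 (show A.det * ((N.det - c ^ k) * (N.det + c ^ k)) = 0 from ?_)).resolve_left hA0
    linear_combination e
  obtain ⟨N', hN', hd'⟩ : ∃ N' : Matrix (Fin (finrank F U)) (Fin (finrank F U)) F,
      N'.transpose * A * N' = c • A ∧ N'.det = c ^ k := by
    rcases mul_eq_zero.1 hdet2 with e | e
    · exact ⟨N, hN, sub_eq_zero.1 e⟩
    rcases Nat.eq_zero_or_pos k with rfl | hkpos
    · exfalso
      haveI : IsEmpty (Fin (finrank F U)) := by rw [hk]; exact Fin.isEmpty'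
      rw [Matrix.det_isEmpty, pow_zero] at e
      exact h2 (by linear_combination e)
    let i0 : Fin (finrank F U) := ⟨0, by omega⟩
    let D : Matrix (Fin (finrank F U)) (Fin (finrank F U)) F := Matrix.diagonal fun i => if i = i0 then -1 else 1
    refine ⟨D * N, ?_, ?_⟩
    · have hDA : Dᵀ * A * D = A := by
        rw [hAd, Matrix.diagonal_transpose, Matrix.diagonal_mul_diagonal, Matrix.diagonal_mul_diagonal]
        congr 1; funext i; split_ifs <;> ring
      calc (D * N)ᵀ * A * (D * N) = Nᵀ * (Dᵀ * A * D) * N := by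
            simp only [Matrix.transpose_mul, Matrix.mul_assoc]
        _ = c • A := by rw [hDA, hN]
    · rw [Matrix.det_mul, Matrix.det_diagonal, Finset.prod_ite_eq' Finset.univ i0 fun _ => (-1 : F)]
      simp
      linear_combination -e
  refine ⟨Matrix.toLin w w N', fun x y => ?_, by rw [LinearMap.det_toLin, hd']⟩
  have : β.comp (Matrix.toLin w w N') (Matrix.toLin w w N') = c • β := by
    refine (LinearMap.BilinForm.toMatrix w).injective ?_
    rw [LinearMap.BilinForm.toMatrix_comp w w, LinearMap.toMatrix_toLin, map_smul, ← hA, hN']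
  exact LinearMap.congr_fun (LinearMap.congr_fun this x) y

/-- Extend an endomorphism of a non-degenerate invariant subspace by the identity. -/
theorem extend_sim (h : OddIso B g r) {U : Submodule F V} (hU : Good B g U) (hh : Module.End F U)
    (hcomm : ∀ x : U, hh ⟨g x, hU.inv _ x.2⟩ = (⟨g (hh x), hU.inv _ (hh x).2⟩ : U)) :
    ∃ H : Module.End F V, Commute H g ∧ LinearMap.det H = LinearMap.det hh ∧
      (∀ x : U, H x = hh x) ∧ ∀ x, (∀ u ∈ U, B u x = 0) → H x = x := by
  let e := Submodule.prodEquivOfIsCompl U (B.orthogonal U) (h.isCompl_orth hU)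
  let H : Module.End F V := e.conj (LinearMap.prodMap hh LinearMap.id)
  have hH : ∀ (u : U) (w : B.orthogonal U), H (u.1 + w.1) = (hh u).1 + w.1 := fun u w => by
    show e ((LinearMap.prodMap hh LinearMap.id) (e.symm (u.1 + w.1))) = _
    rw [show e.symm (u.1 + w.1) = (u, w) from e.symm_apply_eq.2 rfl]
    rfl
  refine ⟨H, ?_, ?_, fun x => ?_, fun x hx => ?_⟩
  · refine LinearMap.ext fun x => ?_
    obtain ⟨⟨u, w⟩, rfl⟩ := e.surjective x
    show H (g (u.1 + w.1)) = g (H (u.1 + w.1))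
    rw [hH, map_add, map_add g]
    refine (hH ⟨g u, hU.inv _ u.2⟩ ⟨g w, h.orth_inv hU w.2⟩).trans ?_
    rw [hcomm]
  · show LinearMap.det (e.conj _) = _
    rw [LinearEquiv.conj_apply, LinearMap.comp_assoc, LinearMap.det_conj, LinearMap.det_prodMap, LinearMap.det_id, mul_one]
  · simpa using hH x 0
  · simpa using hH 0 ⟨x, hx⟩

/-- The centralizer contains a proper similitude of every multiplier. -/
theorem exists_sim (h : OddIso B g r) {m : ℕ} (hdim : finrank F V = 2 * m) {c : F} (hc : c ≠ 0) :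
    ∃ H : Module.End F V, Commute H g ∧ (∀ x y, B (H x) (H y) = c * B x y) ∧ LinearMap.det H = c ^ m := by
  suffices key : ∀ U, Good B g U → ∃ (U₀ U₁ : Submodule F V) (H : Module.End F V) (k : ℕ),
      Good B g U₀ ∧ Good B g U₁ ∧ (∀ x ∈ U₀, ∀ y ∈ U₁, B x y = 0) ∧ U₀ ⊔ U₁ = U ∧
      (∀ x ∈ U₀, g x = x) ∧ Commute H g ∧ (∀ x, (∀ u ∈ U₁, B u x = 0) → H x = x) ∧ (∀ x ∈ U₁, H x ∈ U₁) ∧
      (∀ x ∈ U₁, ∀ y ∈ U₁, B (H x) (H y) = c * B x y) ∧ finrank F U₁ = 2 * k ∧ LinearMap.det H = c ^ k by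
    obtain ⟨U₀, U₁, H, k, hU₀, hU₁, ho, hsup, hfix, hHg, hHid, hH1, hHs, hk, hdet⟩ :=
      key ⊤ ⟨fun x _ hx => h.nondeg x fun y => hx y trivial, fun _ _ => trivial⟩
    have hd0 : finrank F U₀ = 2 * (m - k) := by
      have := Submodule.finrank_sup_add_finrank_inf_eq U₀ U₁
      rw [hsup, hU₀.disjoint ho h.symm, finrank_top, finrank_bot, hdim, hk] at this
      omega
    obtain ⟨hh, hhs, hhd⟩ := exists_sim_plain (F := F) h.two (B.restrict U₀) (fun x y => h.symm _ _)
      (fun x hx => Subtype.ext (hU₀.nd x x.2 fun y hy => hx ⟨y, hy⟩)) hd0 hc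
    obtain ⟨H₀, hH₀g, hH₀d, hH₀U, hH₀id⟩ := extend_sim h hU₀ hh fun x => by
      have e1 : (⟨g x, hU₀.inv _ x.2⟩ : U₀) = x := Subtype.ext (hfix x x.2)
      rw [e1]
      exact Subtype.ext (hfix _ (hh x).2).symm
    refine ⟨H₀ * H, hH₀g.mul_left hHg, fun x y => ?_, ?_⟩
    · obtain ⟨a, ha, b, hb, rfl⟩ := Submodule.mem_sup.1 (show x ∈ U₀ ⊔ U₁ by rw [hsup]; trivial)
      obtain ⟨a', ha', b', hb', rfl⟩ := Submodule.mem_sup.1 (show y ∈ U₀ ⊔ U₁ by rw [hsup]; trivial)
      have e0 : ∀ (z : V) (hz : z ∈ U₀), (H₀ * H) z = (hh ⟨z, hz⟩ : U₀).1 := fun z hz => by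
        rw [Module.End.mul_apply, hHid z (fun u hu => by rw [h.symm]; exact ho z hz u hu), ← hH₀U]
      have e1 : ∀ z ∈ U₁, (H₀ * H) z = H z := fun z hz => by
        rw [Module.End.mul_apply, hH₀id]
        exact fun u hu => ho u hu _ (hH1 z hz)
      rw [map_add, map_add (H₀ * H), e0 a ha, e0 a' ha', e1 b hb, e1 b' hb']
      simp only [map_add, LinearMap.add_apply]
      rw [show B (hh ⟨a, ha⟩ : U₀).1 (hh ⟨a', ha'⟩ : U₀).1 = c * B a a' from hhs ⟨a, ha⟩ ⟨a', ha'⟩,
        hHs b hb b' hb', ho _ (hh ⟨a, ha⟩).2 _ (hH1 b' hb'), ho a ha b' hb',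
        show B (H b) (hh ⟨a', ha'⟩ : U₀).1 = 0 by rw [h.symm]; exact ho _ (hh ⟨a', ha'⟩).2 _ (hH1 b hb),
        show B b a' = 0 by rw [h.symm]; exact ho a' ha' b hb]
      ring
    · have hkm : k ≤ m := by
        have := Submodule.finrank_le U₁
        rw [hk, hdim] at this
        omega
      rw [map_mul, hH₀d, hhd, hdet, ← pow_add, Nat.sub_add_cancel hkm]
  refine splitting_induction h (fun U hU hne hs => ?_) ?_ fun U U' hU hU' hUU' h1 h2 => ?_
  · by_cases hfix : ∀ x ∈ U, g x = x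
    · exact ⟨U, ⊥, 1, 0, hU, ⟨fun x hx _ => (Submodule.mem_bot F).1 hx, fun x hx => by
        rw [(Submodule.mem_bot F).1 hx, map_zero]; exact zero_mem _⟩,
        fun x _ y hy => by rw [(Submodule.mem_bot F).1 hy, map_zero], sup_bot_eq U, hfix, Commute.one_left _,
        fun x _ => rfl, fun x hx => hx, fun x hx y hy => by
          rw [(Submodule.mem_bot F).1 hx, map_zero, map_zero]; simp, by simp,
        by rw [pow_zero]; exact LinearMap.det_id⟩
    obtain ⟨k, hh, hk, hd, hsim, hcomm⟩ := (simple_data h hU hne hs hfix).1 c hc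
    obtain ⟨H, hHg, hHd, hHU, hHid⟩ := extend_sim h hU hh hcomm
    exact ⟨⊥, U, H, k, ⟨fun x hx _ => (Submodule.mem_bot F).1 hx, fun x hx => by
      rw [(Submodule.mem_bot F).1 hx, map_zero]; exact zero_mem _⟩, hU,
      fun x hx y _ => by rw [(Submodule.mem_bot F).1 hx, map_zero, LinearMap.zero_apply], bot_sup_eq U,
      fun x hx => by rw [(Submodule.mem_bot F).1 hx, map_zero], hHg, hHid,
      fun x hx => by rw [hHU ⟨x, hx⟩]; exact (hh ⟨x, hx⟩).2,
      fun x hx y hy => by rw [hHU ⟨x, hx⟩, hHU ⟨y, hy⟩]; exact hsim _ _, hk, hHd.trans hd⟩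
  · have hbot : Good B g (⊥ : Submodule F V) := ⟨fun x hx _ => (Submodule.mem_bot F).1 hx, fun x hx => by
      rw [(Submodule.mem_bot F).1 hx, map_zero]; exact zero_mem _⟩
    exact ⟨⊥, ⊥, 1, 0, hbot, hbot, fun x _ y hy => by rw [(Submodule.mem_bot F).1 hy, map_zero],
      bot_sup_eq _, fun x hx => by rw [(Submodule.mem_bot F).1 hx, map_zero], Commute.one_left _,
      fun x _ => rfl, fun x hx => hx, fun x hx y hy => by
        rw [(Submodule.mem_bot F).1 hx, map_zero, map_zero]; simp, by simp,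
      by rw [pow_zero]; exact LinearMap.det_id⟩
  · obtain ⟨A₀, A₁, H, k, gA₀, gA₁, oA, sA, fA, cA, iA, mA, simA, dA, detA⟩ := h1
    obtain ⟨C₀, C₁, H', k', gC₀, gC₁, oC, sC, fC, cC, iC, mC, simC, dC, detC⟩ := h2
    subst sA sC
    have hx : ∀ x ∈ A₀ ⊔ A₁, ∀ y ∈ C₀ ⊔ C₁, B x y = 0 := hUU'
    have o00 : ∀ x ∈ A₀, ∀ y ∈ C₀, B x y = 0 := fun x a y b =>
      hx x (Submodule.mem_sup_left a) y (Submodule.mem_sup_left b)
    have o01 : ∀ x ∈ A₀, ∀ y ∈ C₁, B x y = 0 := fun x a y b =>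
      hx x (Submodule.mem_sup_left a) y (Submodule.mem_sup_right b)
    have o10 : ∀ x ∈ A₁, ∀ y ∈ C₀, B x y = 0 := fun x a y b =>
      hx x (Submodule.mem_sup_right a) y (Submodule.mem_sup_left b)
    have o11 : ∀ x ∈ A₁, ∀ y ∈ C₁, B x y = 0 := fun x a y b =>
      hx x (Submodule.mem_sup_right a) y (Submodule.mem_sup_right b)
    have e1 : ∀ z ∈ A₁, (H * H') z = H z := fun z hz => by
      rw [Module.End.mul_apply, iC z fun u hu => by rw [h.symm]; exact o11 z hz u hu]
    have e2 : ∀ z ∈ C₁, (H * H') z = H' z := fun z hz => by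
      rw [Module.End.mul_apply, iA _ fun u hu => o11 u hu _ (mC z hz)]
    refine ⟨A₀ ⊔ C₀, A₁ ⊔ C₁, H * H', k + k', gA₀.sup gC₀ o00 h.symm, gA₁.sup gC₁ o11 h.symm, ?_,
      sup_sup_sup_comm _ _ _ _, ?_, cA.mul_left cC, fun x hxp => ?_, ?_, ?_, ?_, by rw [map_mul, detA, detC, pow_add]⟩
    · intro x hx' y hy'
      obtain ⟨a, ha, a', ha', rfl⟩ := Submodule.mem_sup.1 hx'
      obtain ⟨b, hb, b', hb', rfl⟩ := Submodule.mem_sup.1 hy'
      simp only [map_add, LinearMap.add_apply]
      rw [oA a ha b hb, oC a' ha' b' hb', o01 a ha b' hb', h.symm a' b, o10 b hb a' ha']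
      ring
    · intro x hx'
      obtain ⟨a, ha, a', ha', rfl⟩ := Submodule.mem_sup.1 hx'
      rw [map_add, fA a ha, fC a' ha']
    · rw [Module.End.mul_apply, iC x fun u hu => hxp u (Submodule.mem_sup_right hu),
        iA x fun u hu => hxp u (Submodule.mem_sup_left hu)]
    · intro x hx'
      obtain ⟨a, ha, a', ha', rfl⟩ := Submodule.mem_sup.1 hx'
      rw [map_add, e1 a ha, e2 a' ha']
      exact add_mem (Submodule.mem_sup_left (mA a ha)) (Submodule.mem_sup_right (mC a' ha'))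
    · intro x hx' y hy'
      obtain ⟨a, ha, a', ha', rfl⟩ := Submodule.mem_sup.1 hx'
      obtain ⟨b, hb, b', hb', rfl⟩ := Submodule.mem_sup.1 hy'
      rw [map_add, map_add (H * H'), e1 a ha, e2 a' ha', e1 b hb, e2 b' hb']
      simp only [map_add, LinearMap.add_apply]
      rw [simA a ha b hb, simC a' ha' b' hb', o11 _ (mA a ha) _ (mC b' hb'), o11 a ha b' hb',
        show B (H' a') (H b) = 0 by rw [h.symm]; exact o11 _ (mA b hb) _ (mC a' ha'),
        show B a' b = 0 by rw [h.symm]; exact o11 b hb a' ha']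
      ring
    · have := Submodule.finrank_sup_add_finrank_inf_eq A₁ C₁
      rw [gA₁.disjoint o11 h.symm, finrank_bot, dA, dC] at this
      omega

end CfsgLib.SimCent
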