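import Mathlib

/-!
An isometry of odd prime order coprime to the characteristic: polynomials in it are fixed by a power map,
and invariant subspaces split until the self-adjoint part acts as a field.
-/

set_option autoImplicit false

namespace CfsgLib.SimCent

open Module Polynomial

variable {F : Type*} [Field F] [Fintype F] {V : Type*} [AddCommGroup V] [Module F V]

/-- An isometry `g` of the symmetric non-degenerate form `B` with `g ^ r = 1`, `r` an odd prime invertible in `F`. -/
structure OddIso (B : LinearMap.BilinForm F V) (g : Module.End F V) (r : ℕ) : Prop where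
  two : (2 : F) ≠ 0
  symm : ∀ u v, B u v = B v u
  nondeg : ∀ u, (∀ v, B u v = 0) → u = 0
  iso : ∀ u v, B (g u) (g v) = B u v
  prime : r.Prime
  odd : Odd r
  cast_ne : (r : F) ≠ 0
  pow_eq : g ^ r = 1

/-- The self-adjoint part `g + g⁻¹`. -/
def adj (g : Module.End F V) (r : ℕ) : Module.End F V := g + g ^ (r - 1)

/-- The skew part `g - g⁻¹`. -/
def skew (g : Module.End F V) (r : ℕ) : Module.End F V := g - g ^ (r - 1)

variable {B : LinearMap.BilinForm F V} {g : Module.End F V} {r : ℕ}

theorem OddIso.pow_pred (h : OddIso B g r) : g * g ^ (r - 1) = 1 := by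
  rw [← pow_succ', Nat.sub_add_cancel h.prime.one_le, h.pow_eq]

theorem OddIso.pred_pow (h : OddIso B g r) : g ^ (r - 1) * g = 1 := by
  rw [← pow_succ, Nat.sub_add_cancel h.prime.one_le, h.pow_eq]

theorem OddIso.adjoint (h : OddIso B g r) (u v : V) : B (g u) v = B u ((g ^ (r - 1)) v) := by
  conv_lhs => rw [show v = g ((g ^ (r - 1)) v) by rw [← Module.End.mul_apply, h.pow_pred, Module.End.one_apply]]
  rw [h.iso]

theorem OddIso.adjoint' (h : OddIso B g r) (u v : V) : B ((g ^ (r - 1)) u) v = B u (g v) := by
  rw [h.symm, ← h.adjoint, h.symm]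

theorem OddIso.adj_sa (h : OddIso B g r) (u v : V) : B (adj g r u) v = B u (adj g r v) := by
  simp only [adj, LinearMap.add_apply, map_add, h.adjoint, h.adjoint']
  ring

theorem OddIso.skew_skew (h : OddIso B g r) (u v : V) : B (skew g r u) v = -B u (skew g r v) := by
  simp only [skew, LinearMap.sub_apply, map_sub, h.adjoint, h.adjoint']
  ring

theorem OddIso.aeval_sa (h : OddIso B g r) (p : F[X]) : ∀ u v, B (aeval (adj g r) p u) v = B u (aeval (adj g r) p v) := by
  induction p using Polynomial.induction_on' with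
  | add p q hp hq =>
    intro u v
    simp only [map_add, LinearMap.add_apply, hp, hq]
  | monomial n a =>
    have hpow : ∀ (n : ℕ) (u v : V), B ((adj g r ^ n) u) v = B u ((adj g r ^ n) v) := by
      intro n
      induction n with
      | zero => intro u v; rfl
      | succ n ih =>
        intro u v
        rw [pow_succ, Module.End.mul_apply, ih, h.adj_sa, ← Module.End.mul_apply (adj g r), ← pow_succ', ← pow_succ]
    intro u v
    rw [aeval_monomial, ← Algebra.smul_def, LinearMap.smul_apply, LinearMap.smul_apply, map_smul,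
      LinearMap.smul_apply, map_smul, hpow]

/-- The polynomial giving the self-adjoint part. -/
noncomputable def adjPoly (F : Type*) [Field F] (r : ℕ) : F[X] := X + X ^ (r - 1)

theorem aeval_adjPoly : aeval g (adjPoly F r) = adj g r := by simp [adjPoly, adj]

theorem aeval_adj (p : F[X]) : aeval (adj g r) p = aeval g (p.comp (adjPoly F r)) := by
  rw [aeval_comp, aeval_adjPoly]

theorem adj_commute : Commute (adj g r) g :=
  (Commute.refl g).add_left ((Commute.refl g).pow_left _)

theorem aeval_adj_commute (p : F[X]) : Commute (aeval (adj g r) p) g := by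
  rw [aeval_adj]
  have : Commute (aeval g (p.comp (adjPoly F r))) (aeval g (X : F[X])) := (Commute.all _ _).map _
  simpa using this

/-- The exponent fixing all polynomials in `g`. -/
def expo (F : Type*) [Fintype F] (r : ℕ) : ℕ := Fintype.card F ^ (r - 1)

theorem two_le_expo (F : Type*) [Field F] [Fintype F] {r : ℕ} (hr : r.Prime) : 2 ≤ expo F r := by
  have h1 : 2 ≤ Fintype.card F := Fintype.one_lt_card
  have h2 : r - 1 ≠ 0 := by have := hr.two_le; omega
  exact h1.trans (Nat.le_self_pow h2 _)

theorem OddIso.pow_expo (h : OddIso B g r) : g ^ expo F r = g := by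
  obtain ⟨p, hp⟩ := CharP.exists F
  have : Fact p.Prime := ⟨CharP.char_is_prime F p⟩
  obtain ⟨n, hn⟩ := FiniteField.card F p
  have hcop : Nat.Coprime (Fintype.card F) r := by
    rw [hn.2]
    refine Nat.Coprime.pow_left _ ((Nat.coprime_primes Fact.out h.prime).2 ?_)
    rintro rfl
    exact h.cast_ne (CharP.cast_eq_zero F p)
  have h1 := Nat.ModEq.pow_totient hcop
  rw [Nat.totient_prime h.prime] at h1
  obtain ⟨k, hk⟩ := (Nat.modEq_iff_dvd' (Nat.one_le_pow _ _ Fintype.card_pos)).1 h1.symm
  have h2 : expo F r = r * k + 1 := by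
    unfold expo
    have : 1 ≤ Fintype.card F ^ (r - 1) := Nat.one_le_pow _ _ Fintype.card_pos
    omega
  rw [h2, pow_succ, pow_mul, h.pow_eq, one_pow, one_mul]

theorem OddIso.aeval_pow_expo (h : OddIso B g r) (p : F[X]) : aeval g p ^ expo F r = aeval g p := by
  have key : ∀ (e : ℕ), p ^ (Fintype.card F ^ e) = p.comp (X ^ (Fintype.card F ^ e)) := by
    intro e
    induction e with
    | zero => simp
    | succ e ih =>
      rw [pow_succ, pow_mul, ih, ← FiniteField.expand_card, expand_eq_comp_X_pow, comp_assoc, X_pow_comp,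
        ← pow_mul, mul_comm]
  rw [← map_pow, expo, key, aeval_comp, map_pow, aeval_X, show g ^ Fintype.card F ^ (r - 1) = g from h.pow_expo]

variable (B g) in
/-- A non-degenerate invariant subspace. -/
structure Good (U : Submodule F V) : Prop where
  nd : ∀ x ∈ U, (∀ y ∈ U, B x y = 0) → x = 0
  inv : ∀ x ∈ U, g x ∈ U

theorem Good.pow_mem {U : Submodule F V} (hU : Good B g U) : ∀ (n : ℕ) {x : V}, x ∈ U → (g ^ n) x ∈ U := by
  intro n
  induction n with
  | zero => intro x hx; exact hx
  | succ n ih => intro x hx; rw [pow_succ', Module.End.mul_apply]; exact hU.inv _ (ih hx)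

theorem Good.aeval_mem {U : Submodule F V} (hU : Good B g U) (p : F[X]) {x : V} (hx : x ∈ U) :
    aeval g p x ∈ U := by
  induction p using Polynomial.induction_on' with
  | add p q hp hq => rw [map_add, LinearMap.add_apply]; exact add_mem hp hq
  | monomial n a =>
    rw [aeval_monomial, ← Algebra.smul_def, LinearMap.smul_apply]
    exact U.smul_mem _ (hU.pow_mem n hx)

/-- The self-adjoint part acts as a field. -/
def IsSimpleSub (g : Module.End F V) (r : ℕ) (U : Submodule F V) : Prop :=
  ∀ p : F[X], (∀ x ∈ U, aeval (adj g r) p x = 0) ∨ (∀ x ∈ U, aeval (adj g r) p x = 0 → x = 0)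

theorem splitting_induction [FiniteDimensional F V] (h : OddIso B g r) {P : Submodule F V → Prop}
    (hsimple : ∀ U, Good B g U → U ≠ ⊥ → IsSimpleSub g r U → P U) (hbot : P ⊥)
    (hsum : ∀ U₁ U₂, Good B g U₁ → Good B g U₂ → (∀ x ∈ U₁, ∀ y ∈ U₂, B x y = 0) → P U₁ → P U₂ → P (U₁ ⊔ U₂)) :
    ∀ U, Good B g U → P U := by
  suffices ∀ (n : ℕ) (U : Submodule F V), finrank F U = n → Good B g U → P U from fun U => this _ U rfl
  intro n
  induction n using Nat.strong_induction_on with
  | _ n ih =>
    intro U hn hU
    by_cases hb : U = ⊥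
    · rw [hb]; exact hbot
    by_cases hs : IsSimpleSub g r U
    · exact hsimple U hU hb hs
    simp only [IsSimpleSub, not_forall, not_or] at hs
    obtain ⟨p, ⟨x0, hx0, hax0⟩, ⟨y0, hy0, hay0, hy00⟩⟩ := hs
    set a := aeval (adj g r) p with ha
    have haQ : a ^ expo F r = a := by rw [ha, aeval_adj]; exact h.aeval_pow_expo _
    have h2 := two_le_expo F h.prime
    set e := aeval (adj g r) (p ^ (expo F r - 1)) with he
    have he' : e = a ^ (expo F r - 1) := by rw [he, map_pow]
    have hae : a * e = a := by rw [he', ← pow_succ', Nat.sub_add_cancel (by omega), haQ]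
    have hee : e * e = e := by
      conv_lhs => rw [he', ← pow_add, show expo F r - 1 + (expo F r - 1) = expo F r + (expo F r - 2) by omega,
        pow_add, haQ, ← pow_succ', show expo F r - 2 + 1 = expo F r - 1 by omega]
      exact he'.symm
    have heU : ∀ x ∈ U, e x ∈ U := fun x hx => by rw [he, aeval_adj]; exact hU.aeval_mem _ hx
    have heg : ∀ x, e (g x) = g (e x) := fun x => by
      rw [← Module.End.mul_apply, (aeval_adj_commute _).eq, Module.End.mul_apply]
    set U₁ := U.map e with hU₁
    set U₂ := U ⊓ LinearMap.ker e with hU₂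
    have hfix : ∀ x ∈ U₁, e x = x := by
      rintro _ ⟨y, -, rfl⟩
      rw [← Module.End.mul_apply, hee]
    have h1U : U₁ ≤ U := by rintro _ ⟨y, hy, rfl⟩; exact heU y hy
    have hg1 : Good B g U₁ := by
      refine ⟨fun x hx hperp => hU.nd x (h1U hx) fun y hy => ?_, ?_⟩
      · rw [← hfix x hx, h.aeval_sa]
        exact hperp _ ⟨y, hy, rfl⟩
      · rintro _ ⟨y, hy, rfl⟩
        exact ⟨g y, hU.inv y hy, heg y⟩
    have horth : ∀ x ∈ U₁, ∀ y ∈ U₂, B x y = 0 := by
      rintro x hx y ⟨-, hy⟩
      rw [← hfix x hx, h.aeval_sa, LinearMap.mem_ker.1 hy, map_zero]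
    have hg2 : Good B g U₂ := by
      refine ⟨fun x hx hperp => hU.nd x hx.1 fun y hy => ?_, fun x hx => ⟨hU.inv x hx.1, ?_⟩⟩
      · rw [show y = e y + (y - e y) by abel, map_add,
          hperp (y - e y) ⟨sub_mem hy (heU y hy), by
            rw [SetLike.mem_coe, LinearMap.mem_ker, map_sub, ← Module.End.mul_apply, hee, sub_self]⟩,
          h.symm, horth _ ⟨y, hy, rfl⟩ x hx, add_zero]
      · rw [SetLike.mem_coe, LinearMap.mem_ker, heg, LinearMap.mem_ker.1 hx.2, map_zero]
    have hsup : U₁ ⊔ U₂ = U := by
      refine le_antisymm (sup_le h1U inf_le_left) fun y hy => ?_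
      rw [show y = e y + (y - e y) by abel]
      refine add_mem (Submodule.mem_sup_left ⟨y, hy, rfl⟩) (Submodule.mem_sup_right ⟨sub_mem hy (heU y hy), ?_⟩)
      rw [SetLike.mem_coe, LinearMap.mem_ker, map_sub, ← Module.End.mul_apply, hee, sub_self]
    have hlt1 : U₁ < U := lt_of_le_of_ne h1U fun heq => hy00 (by
      have hy' : y0 ∈ U₁ := by rw [heq]; exact hy0
      rw [← hfix y0 hy', he', show expo F r - 1 = expo F r - 2 + 1 by omega, pow_succ, Module.End.mul_apply,
        hay0, map_zero])
    have hlt2 : U₂ < U := lt_of_le_of_ne inf_le_left fun heq => hax0 (by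
      have hx' : x0 ∈ U₂ := by rw [heq]; exact hx0
      show a x0 = 0
      rw [← hae, Module.End.mul_apply, LinearMap.mem_ker.1 hx'.2, map_zero])
    rw [← hsup]
    exact hsum _ _ hg1 hg2 horth (ih _ (hn ▸ Submodule.finrank_lt_finrank_of_lt hlt1) _ rfl hg1)
      (ih _ (hn ▸ Submodule.finrank_lt_finrank_of_lt hlt2) _ rfl hg2)

theorem OddIso.fix_of_skew_sq [FiniteDimensional F V] (h : OddIso B g r) {U : Submodule F V}
    (hz : ∀ x ∈ U, skew g r (skew g r x) = 0) : ∀ x ∈ U, g x = x := by
  intro x hx
  set a := aeval g (X ^ 2 - 1 : F[X]) with ha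
  have ha' : a = g * skew g r := by
    rw [ha, skew, mul_sub, h.pow_pred]
    simp [pow_two]
  have hc : Commute g (skew g r) := (Commute.refl g).sub_right ((Commute.refl g).pow_right _)
  have haQ : a ^ expo F r = a := h.aeval_pow_expo _
  have ha2 : (a ^ 2) x = 0 := by
    rw [ha', hc.mul_pow, Module.End.mul_apply, pow_two (skew g r), Module.End.mul_apply, hz x hx, map_zero]
  have hax : a x = 0 := by
    rw [← haQ, show expo F r = expo F r - 2 + 2 by have := two_le_expo F h.prime; omega, pow_add,
      Module.End.mul_apply, ha2, map_zero]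
  have hg2 : (g ^ 2) x = x := by
    rw [ha, map_sub, map_pow, aeval_X, map_one, LinearMap.sub_apply, Module.End.one_apply, sub_eq_zero] at hax
    exact hax
  obtain ⟨k, hk⟩ := h.odd
  have hk' : ∀ j : ℕ, ((g ^ 2) ^ j) x = x := by
    intro j
    induction j with
    | zero => rfl
    | succ j ih => rw [pow_succ, Module.End.mul_apply, hg2, ih]
  have := congrArg (fun f => f x) h.pow_eq
  simp only [hk, pow_succ', pow_mul, Module.End.mul_apply, hk', Module.End.one_apply] at this
  exact this

end CfsgLib.SimCent
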